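import Groth.Agent.Lib.Kodaira.Big
import Groth.Prelude.Def_NumR

/-!
# The ample, big and effective cones

Big classes are sums of ample and effective classes; the ample and big cones are open.
-/

set_option autoImplicit false
set_option backward.isDefEq.respectTransparency false
set_option linter.all false

universe u

open CategoryTheory CategoryTheory.Limits AlgebraicGeometry TopologicalSpace
open scoped Pointwise

noncomputable section

namespace GrothLib.Kodaira

open GrothLib.Cube (Pic clsMod)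

variable {X : Scheme.{u}}

/-- `L` is big: every ample invertible module maps monomorphically to a positive power of `L`. -/
abbrev IsBigMono (L : X.Modules) : Prop :=
  ∀ A : X.Modules, CohB1.IsAmple A → ∃ (m : ℕ) (φ : A ⟶ CohB1.tensorPow L m), 0 < m ∧ Mono φ

theorem exists_inverse {L : X.Modules} (hL : PicF.IsInvertible L) :
    ∃ T : X.Modules, PicF.IsInvertible T ∧ Nonempty (CohB1.tensorMod T L ≅ Coh.structureModule X) := by
  obtain ⟨T, hT, e⟩ := exists_rep (clsMod hL)⁻¹
  refine ⟨T, hT, (Cube.clsMod_eq_one_iff (Ample.isInvertible_tensorMod hT hL)).1 ?_⟩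
  rw [Cube.clsMod_tensorMod hT hL, e, inv_mul_cancel]

open Ample in
/-- High powers of an ample module twisted by any invertible module are ample. -/
theorem exists_isAmple_pow_tensor {H L : X.Modules} (hH : CohB1.IsAmple H) (hL : PicF.IsInvertible L) :
    ∃ j₀ : ℕ, ∀ j, j₀ ≤ j → CohB1.IsAmple (CohB1.tensorMod (CohB1.tensorPow H j) L) := by
  haveI := hH.2.1
  obtain ⟨c, ⟨e⟩⟩ := exists_cocycle hH.1
  obtain ⟨d, ⟨eL⟩⟩ := exists_cocycle hL
  obtain ⟨j₀, hj₀⟩ := c.eventually_isAmple_prod d ((c.isAmple_iff e).mp hH).2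
  refine ⟨j₀, fun j hj => ?_⟩
  obtain ⟨p⟩ := c.nonempty_tensorPow_iso_pow e j
  obtain ⟨m⟩ := (c.pow j).nonempty_tensorMod_iso_prod d p eL
  exact (Ample.isAmple_iff_of_iso m).2 (hj₀ j hj).1

variable {k : Type u} [Field k] [X.Over (Spec (CommRingCat.of k))] [PicGrp.Law X]

theorem cls_tensor {L M : X.Modules} (hL : PicF.IsInvertible L) (hM : PicF.IsInvertible M) :
    PicGrp.cls (CohB1.tensorMod L M) (Ample.isInvertible_tensorMod hL hM) = PicGrp.cls L hL * PicGrp.cls M hM :=
  Subtype.ext (PicGrp.cls_mul_cls_val hL hM).symm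

theorem cls_pow {L : X.Modules} (hL : PicF.IsInvertible L) (n : ℕ) :
    PicGrp.cls (CohB1.tensorPow L n) (Ample.isInvertible_tensorPow hL n) = PicGrp.cls L hL ^ n :=
  Subtype.ext (PicGrp.cls_pow_val hL n).symm

theorem clR_tensor {L M : X.Modules} (hL : PicF.IsInvertible L) (hM : PicF.IsInvertible M) :
    NumR.clR k X (CohB1.tensorMod L M) (Ample.isInvertible_tensorMod hL hM) =
      NumR.clR k X L hL + NumR.clR k X M hM := by
  simp only [NumR.clR, NumR.cl, cls_tensor hL hM, ofMul_mul, map_add]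

theorem clR_pow {L : X.Modules} (hL : PicF.IsInvertible L) (n : ℕ) :
    NumR.clR k X (CohB1.tensorPow L n) (Ample.isInvertible_tensorPow hL n) = (n : ℝ) • NumR.clR k X L hL := by
  simp only [NumR.clR, NumR.cl, cls_pow hL n, ofMul_pow, map_nsmul, Nat.cast_smul_eq_nsmul]

theorem clR_inverse {L T : X.Modules} (hL : PicF.IsInvertible L) (hT : PicF.IsInvertible T)
    (h : Nonempty (CohB1.tensorMod T L ≅ Coh.structureModule X)) :
    NumR.clR k X T hT = - NumR.clR k X L hL := by
  simp only [NumR.clR, NumR.cl, ← PicGrp.cls_inv_eq_cls hT hL h, ofMul_inv, map_neg, neg_neg]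

theorem clR_mem_ampleCone {A : X.Modules} (hA : CohB1.IsAmple A) :
    NumR.clR k X A hA.1 ∈ NumR.ampleCone k X :=
  ConvexCone.subset_hull ⟨A, hA.1, hA, rfl⟩

section

variable [IsIntegral X]

theorem hasSection_iff {E : X.Modules} (hE : PicF.IsInvertible E) :
    NumR.HasSection E ↔ PLe (1 : Pic X) (clsMod hE) := by
  rw [← (Cube.clsMod_eq_one_iff (Euler.isInvertible_structure (X := X))).2 ⟨Iso.refl _⟩, pLe_iff]
  exact ⟨fun ⟨s, hs⟩ => ⟨s, Euler.mono_of_ne_zero Euler.isInvertible_structure hE hs⟩,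
    fun ⟨s, hs⟩ => ⟨s, exists_ne_zero_of_mono Euler.isInvertible_structure s⟩⟩

theorem clR_mem_effCone {E : X.Modules} (hE : PicF.IsInvertible E) (h : NumR.HasSection E) :
    NumR.clR k X E hE ∈ NumR.effCone k X :=
  ConvexCone.subset_hull ⟨E, hE, h, rfl⟩

theorem ampleCone_le_effCone : NumR.ampleCone k X ≤ NumR.effCone k X := by
  refine ConvexCone.hull_min ?_
  rintro _ ⟨A, hA, hAmp, rfl⟩
  obtain ⟨j₀, hj₀⟩ := exists_pLe_pow hAmp (1 : Pic X)
  have hN := Ample.isInvertible_tensorPow hA (j₀ + 1)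
  have h : NumR.HasSection (CohB1.tensorPow A (j₀ + 1)) := by
    rw [hasSection_iff hN, Cube.clsMod_tensorPow hA]
    exact hj₀ _ (Nat.le_succ _)
  have h2 := (NumR.effCone k X).smul_mem (show (0 : ℝ) < 1 / (j₀ + 1 : ℕ) by positivity)
    (clR_mem_effCone (k := k) hN h)
  rwa [clR_pow hA, smul_smul, one_div, inv_mul_cancel₀ (by positivity), one_smul] at h2

/-- An ample module tensored with an effective one is big. -/
theorem isBigMono_tensor {A E : X.Modules} (hA : CohB1.IsAmple A) (hE : PicF.IsInvertible E)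
    (h : NumR.HasSection E) (N : ℕ) :
    IsBigMono (CohB1.tensorMod A (CohB1.tensorPow E N)) := by
  intro A' hA'
  obtain ⟨j₀, hj₀⟩ := exists_pLe_pow hA (clsMod hA'.1)
  have hEN := Ample.isInvertible_tensorPow hE N
  have hT := Ample.isInvertible_tensorMod hA.1 hEN
  refine ⟨j₀ + 1, ?_⟩
  have h1 : PLe (clsMod hA.1) (clsMod hT) := by
    rw [Cube.clsMod_tensorMod hA.1 hEN, Cube.clsMod_tensorPow hE]
    have := ((((hasSection_iff hE).1 h).pow N).mul_right (clsMod hA.1))
    rwa [one_pow, one_mul, mul_comm] at this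
  have h2 := (hj₀ (j₀ + 1) (Nat.le_succ _)).trans (h1.pow (j₀ + 1))
  rw [← Cube.clsMod_tensorPow hT] at h2
  obtain ⟨f, hf⟩ := (pLe_iff hA'.1 _).1 h2
  exact ⟨f, j₀.succ_pos, hf⟩

variable (k) in
/-- The big cone. -/
def bigCone : ConvexCone ℝ (NumR.N1R k X) :=
  NumR.coneOf k X IsBigMono

theorem bigCone_sub {H : X.Modules} (hH : CohB1.IsAmple H) {x : NumR.N1R k X} (hx : x ∈ bigCone (X := X) k) :
    ∃ a ∈ NumR.ampleCone k X, x - a ∈ NumR.effCone k X := by
  let S : ConvexCone ℝ (NumR.N1R k X) :=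
    { carrier := {x | ∃ a ∈ NumR.ampleCone k X, x - a ∈ NumR.effCone k X}
      smul_mem' := fun c hc x hx => by
        obtain ⟨a, ha, he⟩ := hx
        exact ⟨c • a, (NumR.ampleCone k X).smul_mem hc ha, by
          rw [← smul_sub]; exact (NumR.effCone k X).smul_mem hc he⟩
      add_mem' := fun x hx y hy => by
        obtain ⟨a, ha, he⟩ := hx
        obtain ⟨b, hb, hf⟩ := hy
        exact ⟨a + b, (NumR.ampleCone k X).add_mem ha hb, by
          rw [add_sub_add_comm]; exact (NumR.effCone k X).add_mem he hf⟩ }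
  refine (ConvexCone.hull_min (C := S) ?_ : bigCone (X := X) k ≤ S) hx
  rintro _ ⟨L, hL, hbig, rfl⟩
  obtain ⟨m, φ, hm, hφ⟩ := hbig H hH
  obtain ⟨T, hT, hTH⟩ := exists_inverse hH.1
  have hLm := Ample.isInvertible_tensorPow hL m
  have hE := Ample.isInvertible_tensorMod hLm hT
  have hsec : NumR.HasSection (CohB1.tensorMod (CohB1.tensorPow L m) T) := by
    rw [hasSection_iff hE, Cube.clsMod_tensorMod hLm hT]
    have h := ((pLe_iff hH.1 hLm).2 ⟨φ, hφ⟩).mul_right (clsMod hT)
    rwa [mul_comm (clsMod hH.1), ← Cube.clsMod_tensorMod hT hH.1, (Cube.clsMod_eq_one_iff _).2 hTH] at h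
  have h2 := (NumR.effCone k X).smul_mem (show (0 : ℝ) < 1 / (m : ℝ) by positivity) (clR_mem_effCone (k := k) hE hsec)
  refine ⟨(1 / (m : ℝ)) • NumR.clR k X H hH.1,
    (NumR.ampleCone k X).smul_mem (by positivity) (clR_mem_ampleCone hH), ?_⟩
  rw [clR_tensor hLm hT, clR_inverse hH.1 hT hTH, clR_pow hL, smul_add, smul_smul, one_div,
    inv_mul_cancel₀ (by positivity), one_smul, smul_neg, ← sub_eq_add_neg] at h2
  rwa [one_div]

theorem add_mem_bigCone {a e : NumR.N1R k X} (ha : a ∈ NumR.ampleCone k X) (he : e ∈ NumR.effCone k X) :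
    a + e ∈ bigCone (X := X) k := by
  let Q : ConvexCone ℝ (NumR.N1R k X) :=
    { carrier := {e | ∀ a ∈ NumR.ampleCone k X, a + e ∈ bigCone (X := X) k}
      smul_mem' := fun c hc e he a ha => by
        have h := (bigCone (X := X) k).smul_mem hc (he (c⁻¹ • a) ((NumR.ampleCone k X).smul_mem (by positivity) ha))
        rwa [smul_add, smul_smul, mul_inv_cancel₀ hc.ne', one_smul] at h
      add_mem' := fun e he f hf a ha => by
        have h := (bigCone (X := X) k).add_mem (he _ ((NumR.ampleCone k X).smul_mem (show (0 : ℝ) < 1 / 2 by norm_num) ha))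
          (hf _ ((NumR.ampleCone k X).smul_mem (show (0 : ℝ) < 1 / 2 by norm_num) ha))
        rwa [add_add_add_comm, ← add_smul, show (1 / 2 + 1 / 2 : ℝ) = 1 by norm_num, one_smul] at h }
  refine ((ConvexCone.hull_min (C := Q) ?_ : NumR.effCone k X ≤ Q) he) a ha
  rintro _ ⟨E, hE, hsec, rfl⟩
  suffices h : ∀ a ∈ NumR.ampleCone k X, ∀ s : ℝ, 0 < s → a + s • NumR.clR k X E hE ∈ bigCone (X := X) k by
    intro a ha
    simpa using h a ha 1 one_pos
  let R : ConvexCone ℝ (NumR.N1R k X) :=
    { carrier := {a | ∀ s : ℝ, 0 < s → a + s • NumR.clR k X E hE ∈ bigCone (X := X) k}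
      smul_mem' := fun c hc a ha s hs => by
        have h := (bigCone (X := X) k).smul_mem hc (ha (s / c) (by positivity))
        rwa [smul_add, smul_smul, mul_div_cancel₀ s hc.ne'] at h
      add_mem' := fun a ha b hb s hs => by
        have h := (bigCone (X := X) k).add_mem (ha (s / 2) (by positivity)) (hb (s / 2) (by positivity))
        rwa [add_add_add_comm, ← add_smul, add_halves] at h }
  refine fun a ha => (ConvexCone.hull_min (C := R) ?_ : NumR.ampleCone k X ≤ R) ha
  rintro _ ⟨A, hA, hAmp, rfl⟩ s hs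
  obtain ⟨N, hN⟩ := exists_nat_gt s
  have hN0 : (0 : ℝ) < N := hs.trans hN
  have hbig : ∀ n : ℕ, NumR.clR k X A hA + (n : ℝ) • NumR.clR k X E hE ∈ bigCone (X := X) k := fun n => by
    rw [← clR_pow hE n, ← clR_tensor hA (Ample.isInvertible_tensorPow hE n)]
    exact ConvexCone.subset_hull ⟨_, _, isBigMono_tensor hAmp hE hsec n, rfl⟩
  have h0 : NumR.clR k X A hA ∈ bigCone (X := X) k := by simpa using hbig 0
  have h := (bigCone (X := X) k).add_mem ((bigCone (X := X) k).smul_mem (div_pos hs hN0) (hbig N))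
    ((bigCone (X := X) k).smul_mem (show (0 : ℝ) < 1 - s / N by rw [sub_pos, div_lt_one hN0]; exact hN) h0)
  rwa [smul_add, smul_smul, div_mul_cancel₀ _ hN0.ne', add_right_comm, ← add_smul, add_sub_cancel, one_smul] at h

end

/-- The ample cone is open. -/
theorem isOpen_ampleCone [Module.Finite ℝ (NumR.N1R k X)] {H : X.Modules} (hH : CohB1.IsAmple H) :
    IsOpen (NumR.ampleCone k X : Set (NumR.N1R k X)) := by
  obtain ⟨h, hh⟩ : ∃ h, h = NumR.clR k X H hH.1 := ⟨_, rfl⟩
  have hhA : h ∈ NumR.ampleCone k X := hh ▸ clR_mem_ampleCone hH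
  -- a little of `h` can be taken away
  have hsub : ∀ a ∈ NumR.ampleCone k X, ∃ δ : ℝ, 0 < δ ∧ a - δ • h ∈ NumR.ampleCone k X := by
    let S : ConvexCone ℝ (NumR.N1R k X) :=
      { carrier := {a | ∃ δ : ℝ, 0 < δ ∧ a - δ • h ∈ NumR.ampleCone k X}
        smul_mem' := fun c hc a ha => by
          obtain ⟨δ, hδ, ha⟩ := ha
          exact ⟨c * δ, mul_pos hc hδ, by
            rw [mul_smul, ← smul_sub]; exact (NumR.ampleCone k X).smul_mem hc ha⟩
        add_mem' := fun a ha b hb => by
          obtain ⟨δ, hδ, ha⟩ := ha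
          obtain ⟨ε, hε, hb⟩ := hb
          exact ⟨δ + ε, add_pos hδ hε, by
            rw [add_smul, add_sub_add_comm]; exact (NumR.ampleCone k X).add_mem ha hb⟩ }
    refine fun a ha => (ConvexCone.hull_min (C := S) ?_ : NumR.ampleCone k X ≤ S) ha
    rintro _ ⟨A, hA, hAmp, rfl⟩
    obtain ⟨T, hT, hTH⟩ := exists_inverse hH.1
    obtain ⟨j₀, hj₀⟩ := exists_isAmple_pow_tensor hAmp hT
    refine ⟨1 / (j₀ + 1 : ℕ), by positivity, ?_⟩
    have h1 := (NumR.ampleCone k X).smul_mem (show (0 : ℝ) < 1 / (j₀ + 1 : ℕ) by positivity)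
      (clR_mem_ampleCone (k := k) (hj₀ (j₀ + 1) (Nat.le_succ _)))
    rwa [clR_tensor (Ample.isInvertible_tensorPow hA _) hT, clR_pow hA, clR_inverse hH.1 hT hTH, ← hh,
      smul_add, smul_smul, one_div_mul_cancel (by positivity), one_smul, smul_neg, ← sub_eq_add_neg] at h1
  -- `h` absorbs every class
  have habs : ∀ v : NumR.N1R k X, ∃ M : ℝ, 0 < M ∧ ∀ c : ℝ, |c| ≤ 1 → M • h + c • v ∈ NumR.ampleCone k X := by
    intro v
    have hv : v ∈ Submodule.span ℝ {x : NumR.N1R k X | ∃ (L : X.Modules) (hL : PicF.IsInvertible L), x = NumR.clR k X L hL} := by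
      rw [NumR.span_clR]; trivial
    induction hv using Submodule.span_induction with
    | mem w hw =>
      obtain ⟨L, hL, rfl⟩ := hw
      obtain ⟨T, hT, hTL⟩ := exists_inverse hL
      obtain ⟨j₁, hj₁⟩ := exists_isAmple_pow_tensor hH hL
      obtain ⟨j₂, hj₂⟩ := exists_isAmple_pow_tensor hH hT
      refine ⟨(j₁ + j₂ + 1 : ℕ), by positivity, fun c hc => ?_⟩
      have p := clR_mem_ampleCone (k := k) (hj₁ (j₁ + j₂ + 1) (by omega))
      have q := clR_mem_ampleCone (k := k) (hj₂ (j₁ + j₂ + 1) (by omega))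
      rw [clR_tensor (Ample.isInvertible_tensorPow hH.1 _) hL, clR_pow hH.1, ← hh] at p
      rw [clR_tensor (Ample.isInvertible_tensorPow hH.1 _) hT, clR_pow hH.1, clR_inverse hL hT hTL, ← hh] at q
      obtain ⟨h1, h2⟩ := abs_le.1 hc
      -- a convex combination of the two
      rcases eq_or_lt_of_le h2 with rfl | h2'
      · simpa using p
      rcases eq_or_lt_of_le h1 with rfl | h1'
      · simpa using q
      have hp := (NumR.ampleCone k X).smul_mem (show (0 : ℝ) < (1 + c) / 2 by linarith) p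
      have hq := (NumR.ampleCone k X).smul_mem (show (0 : ℝ) < (1 - c) / 2 by linarith) q
      convert (NumR.ampleCone k X).add_mem hp hq using 1
      simp only [smul_add, smul_neg, smul_smul]
      module
    | zero => exact ⟨1, one_pos, fun c _ => by simpa using hhA⟩
    | add v w _ _ hv hw =>
      obtain ⟨M, hM, hv⟩ := hv
      obtain ⟨M', hM', hw⟩ := hw
      refine ⟨M + M', add_pos hM hM', fun c hc => ?_⟩
      rw [add_smul, smul_add, add_add_add_comm]
      exact (NumR.ampleCone k X).add_mem (hv c hc) (hw c hc)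
    | smul r v _ hv =>
      obtain ⟨M, hM, hv⟩ := hv
      refine ⟨(|r| + 1) * M, by positivity, fun c hc => ?_⟩
      have h1 : |c * r / (|r| + 1)| ≤ 1 := by
        rw [abs_div, abs_of_pos (by positivity : (0 : ℝ) < |r| + 1), div_le_one (by positivity), abs_mul]
        nlinarith [abs_nonneg r, abs_nonneg c]
      have := (NumR.ampleCone k X).smul_mem (by positivity : (0 : ℝ) < |r| + 1) (hv _ h1)
      rwa [smul_add, smul_smul, smul_smul, mul_div_cancel₀ _ (by positivity), mul_smul c r v] at this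
  obtain ⟨n, f, hf⟩ := Module.Finite.exists_fin' ℝ (NumR.N1R k X)
  haveI : IsModuleTopology ℝ (Fin n → ℝ) := inferInstance
  choose M hM hMc using fun i : Fin n => habs (f (Pi.single i 1))
  refine isOpen_iff_mem_nhds.2 fun a ha => ?_
  obtain ⟨δ, hδ, haδ⟩ := hsub a ha
  -- the image of a small box
  let r : Fin n → ℝ := fun i => δ / ((n + 1 : ℕ) * M i)
  let U : Set (Fin n → ℝ) := Set.pi Set.univ fun i => Set.Ioo (-r i) (r i)
  have hU : IsOpen U := isOpen_set_pi Set.finite_univ fun i _ => isOpen_Ioo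
  have hfo : IsOpenMap f := (IsModuleTopology.isOpenQuotientMap_of_surjective (φ := f) hf).isOpenMap
  have himg : IsOpen ((fun v => a + v) '' (f '' U)) :=
    (isOpenMap_add_left a) _ (hfo _ hU)
  refine Filter.mem_of_superset (himg.mem_nhds ⟨0, ⟨0, fun i _ => ?_, map_zero f⟩, add_zero a⟩) ?_
  · have : 0 < r i := by have := hM i; positivity
    exact ⟨by simpa using this, by simpa using this⟩
  rintro _ ⟨_, ⟨c, hc, rfl⟩, rfl⟩
  have hterm : ∀ i, (δ / (n + 1 : ℕ)) • h + f (Pi.single i (c i)) ∈ NumR.ampleCone k X := by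
    intro i
    obtain ⟨h1, h2⟩ := hc i trivial
    have hr : 0 < r i := by have := hM i; positivity
    have h3 : |c i / r i| ≤ 1 := by
      rw [abs_div, abs_of_pos hr, div_le_one hr]
      exact (abs_lt.2 ⟨h1, h2⟩).le
    have := (NumR.ampleCone k X).smul_mem hr (hMc i _ h3)
    rw [smul_add, smul_smul, smul_smul, mul_div_cancel₀ _ hr.ne'] at this
    rw [show Pi.single i (c i) = c i • (Pi.single i 1 : Fin n → ℝ) by rw [← Pi.single_smul', smul_eq_mul, mul_one],
      map_smul]
    convert this using 3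
    simp only [r]
    have := (hM i).ne'
    field_simp
  have hrest : (a - δ • h) + (δ / (n + 1 : ℕ)) • h ∈ NumR.ampleCone k X :=
    (NumR.ampleCone k X).add_mem haδ ((NumR.ampleCone k X).smul_mem (by positivity) hhA)
  suffices hS : ∀ S : Finset (Fin n), ((a - δ • h) + (δ / (n + 1 : ℕ)) • h) +
      ∑ i ∈ S, ((δ / (n + 1 : ℕ)) • h + f (Pi.single i (c i))) ∈ NumR.ampleCone k X by
    have := hS Finset.univ
    rw [Finset.sum_add_distrib, ← map_sum, Finset.univ_sum_single, Finset.sum_const, Finset.card_univ,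
      Fintype.card_fin, ← Nat.cast_smul_eq_nsmul ℝ] at this
    show a + f c ∈ NumR.ampleCone k X
    convert this using 1
    simp only [smul_smul]
    have hn : ((n : ℕ) + 1 : ℝ) ≠ 0 := by positivity
    rw [add_assoc _ _ ((_ : NumR.N1R k X) + _), ← add_assoc ((δ / (n + 1 : ℕ)) • h) _ (f c), ← add_smul,
      show δ / ((n + 1 : ℕ) : ℝ) + (n : ℝ) * (δ / ((n + 1 : ℕ) : ℝ)) = δ by push_cast; field_simp; ring,
      ← add_assoc, sub_add_cancel]
  intro S
  induction S using Finset.induction_on with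
  | empty => simpa using hrest
  | insert i S hi ih =>
    rw [Finset.sum_insert hi, add_comm (_ • h + _), ← add_assoc]
    exact (NumR.ampleCone k X).add_mem ih (hterm i)

end GrothLib.Kodaira
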