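import Groth.Agent.Lib.Kodaira.Tensor
import Groth.Agent.Lib.Hilb20.Stable

/-!
# Bounds on the dimension of spaces of sections of powers
-/

set_option autoImplicit false
set_option linter.all false

universe u

open CategoryTheory CategoryTheory.Limits AlgebraicGeometry TopologicalSpace Opposite

noncomputable section

namespace GrothLib.Kodaira

open GrothLib.Euler (tF)
open GrothLib.Snapper (DimLT hpos polyLT phi invPows)
open GrothLib.QCoh (stalkLin TorsFreeAt)

variable {X : Scheme.{u}} (k : Type u) [Field k] [X.Over (Spec (CommRingCat.of k))]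

/-- The dimension of the space of sections. -/
def h0 (F : X.Modules) : ℕ := Module.finrank k (Coh.HH X F 0)

theorem h0_of_iso {F G : X.Modules} (e : F ≅ G) : h0 k F = h0 k G :=
  (Euler.hhEquiv (A := k) e 0).finrank_eq

theorem h0_of_isZero {F : X.Modules} (hF : IsZero F) : h0 k F = 0 := by
  haveI := Cohom.subsingleton_HH_of_isZero hF 0
  exact Module.finrank_zero_of_subsingleton

variable [IsProper (X ↘ Spec (CommRingCat.of k))]

theorem h0_le_of_mono {F G : X.Modules} (f : F ⟶ G) [Mono f] (hG : Coh.IsCoh G) : h0 k F ≤ h0 k G :=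
  Euler.finrank_H0_le_of_mono k f hG

theorem h0_X₂_le {S : ShortComplex X.Modules} (hS : S.ShortExact) (h₁ : Coh.IsCoh S.X₁)
    (h₂ : Coh.IsCoh S.X₂) (h₃ : Coh.IsCoh S.X₃) : h0 k S.X₂ ≤ h0 k S.X₁ + h0 k S.X₃ := by
  haveI := Euler.finiteDimensional_HH k h₁ 0
  haveI := Euler.finiteDimensional_HH k h₂ 0
  haveI := Euler.finiteDimensional_HH k h₃ 0
  exact Snapper.exact_finrank_le k (Cohom.exact₂ hS 0)

theorem abs_euler_sub_h0_le {F : X.Modules} (hF : Coh.IsCoh F) :
    |Curv2.euler k X F - (h0 k F : ℤ)| ≤ (hpos k F : ℤ) := by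
  obtain ⟨N, hN⟩ := Euler.exists_bound (X := X) k
  haveI := hF.1
  rw [Euler.euler_eq_sum k F (N := N + 1) (fun i hi => hN F i (by omega)),
    Snapper.hpos_eq_sum k (hN F), Finset.sum_range_succ']
  simp only [pow_zero, one_mul, h0, add_sub_cancel_right]
  push_cast
  refine (Finset.abs_sum_le_sum_abs _ _).trans (le_of_eq (Finset.sum_congr rfl fun i _ => ?_))
  rw [abs_mul, abs_pow, abs_neg, abs_one, one_pow, one_mul, Nat.abs_cast]

theorem h0_le {F : X.Modules} (hF : Coh.IsCoh F) :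
    (h0 k F : ℚ) ≤ |(Curv2.euler k X F : ℚ)| + (hpos k F : ℚ) := by
  have h := abs_le.1 (abs_euler_sub_h0_le k hF)
  have h1 := le_abs_self (Curv2.euler k X F : ℚ)
  have h2 : ((h0 k F : ℤ) : ℚ) ≤ ((Curv2.euler k X F + (hpos k F : ℤ) : ℤ) : ℚ) := by
    exact_mod_cast (by omega : (h0 k F : ℤ) ≤ Curv2.euler k X F + (hpos k F : ℤ))
  push_cast at h2
  linarith

theorem le_h0 {F : X.Modules} (hF : Coh.IsCoh F) :
    (Curv2.euler k X F : ℚ) - (hpos k F : ℚ) ≤ (h0 k F : ℚ) := by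
  have h := abs_le.1 (abs_euler_sub_h0_le k hF)
  have h2 : ((Curv2.euler k X F - (hpos k F : ℤ) : ℤ) : ℚ) ≤ ((h0 k F : ℤ) : ℚ) := by
    exact_mod_cast (by omega : Curv2.euler k X F - (hpos k F : ℤ) ≤ (h0 k F : ℤ))
  push_cast at h2
  linarith

include k in
/-- Twists of a coherent module with support of dimension `< d` by powers of an invertible module have
`O(n^{d-1})` sections. -/
theorem h0_twist_bound {H L : X.Modules} (hH : CohB1.IsAmple H) (hL : PicF.IsInvertible L) {d : ℕ}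
    {F : X.Modules} (hF : Coh.IsCoh F) (hd : DimLT (CohB1.support F) d) :
    ∃ C : ℕ, ∀ n : ℕ, h0 k ((tF (CohB1.tensorPow L n)).obj F) ≤ C * (n + 1) ^ (d - 1) := by
  haveI := Euler.isNoetherian_of_proper (X := X) k
  refine QCoh.coh_induction (fun M => ∃ C : ℕ, ∀ n : ℕ,
    h0 k ((tF (CohB1.tensorPow L n)).obj M) ≤ C * (n + 1) ^ (d - 1)) ?_ ?_ ?_ F hF ?_
  · rintro M N ⟨e⟩ ⟨C, hC⟩
    exact ⟨C, fun n => (h0_of_iso k ((tF _).mapIso e)).symm.le.trans (hC n)⟩
  · intro M hM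
    exact ⟨0, fun n => by rw [h0_of_isZero k ((tF (CohB1.tensorPow L n)).map_isZero hM), zero_mul]⟩
  · rintro S hS a b c ⟨C₁, h₁⟩ ⟨C₃, h₃⟩
    refine ⟨C₁ + C₃, fun n => ?_⟩
    refine (h0_X₂_le k (Snapper.shortExact_twist hL n hS) (Snapper.isCoh_twist k hL a n)
      (Snapper.isCoh_twist k hL b n) (Snapper.isCoh_twist k hL c n)).trans ?_
    rw [Nat.add_mul]
    exact Nat.add_le_add (h₁ n) (h₃ n)
  intro Z i hi hZ N ι hι hN hN0 hsub
  let P := (Coh.push i).obj N
  have hP : Coh.IsCoh P := by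
    haveI := hN.1
    haveI : IsLocallyNoetherian Z := LocallyOfFiniteType.isLocallyNoetherian i
    exact ⟨QCoh.isQuasicoherent_pushforward i N, QCoh.isFiniteType_pushforward i N hN.2⟩
  have hPd : DimLT (CohB1.support P) d := hd.mono hsub
  let η := i (genericPoint Z)
  haveI : Mono ((Coh.push i).map ι) := (inferInstance : Mono ((Scheme.Modules.pushforward i).map ι))
  have hPt : TorsFreeAt P η := torsFreeAt_of_mono ((Coh.push i).map ι) (QCoh.pushUnit_torsFreeAt i)
  obtain ⟨j, hj⟩ := exists_hom_isoOn hH hL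
  obtain ⟨U, σ, hηU, hσ⟩ := hj j le_rfl η
  obtain ⟨C, hC⟩ := Snapper.exists_abs_le_of_mem
    (Snapper.phi_mem_polyLT k (L := fun _ : Fin 1 => H) (fun _ => hH.1) d P hP hPd)
  obtain ⟨C', hC'⟩ := Snapper.growth_hpos k hH d P hP (fun l hl => Nat.lt_succ_of_lt (hPd l hl))
  have key : ∀ m : ℕ, (h0 k ((tF (CohB1.tensorPow H m)).obj P) : ℚ) ≤ (C + C') * ((m : ℚ) + 1) ^ (d - 1) := by
    intro m
    refine (h0_le k (Snapper.isCoh_twist k hH.1 hP m)).trans ?_
    rw [add_mul]
    refine add_le_add ?_ (by exact_mod_cast hC' m)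
    have := Hilb20.euler_twist k H P m
    exact (le_of_eq (congrArg abs this)).trans (hC m)
  have hC0 : (0 : ℚ) ≤ C + C' := by
    have := key 0
    simp only [Nat.cast_zero, zero_add, one_pow, mul_one] at this
    exact le_trans (Nat.cast_nonneg _) this
  refine ⟨⌈(C + C') * ((j : ℚ) + 1) ^ (d - 1)⌉₊, fun n => ?_⟩
  obtain ⟨τ, hτ⟩ := exists_pow_isoOn hσ n
  let f : (tF (CohB1.tensorPow L n)).obj P ⟶ (tF (CohB1.tensorPow H (j * n))).obj P :=
    ((DCoh.tensorBi (X := X)).obj P).map τ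
  haveI : Mono f := mono_of_stalk_injective f
    (torsFreeAt_tensor (Ample.isInvertible_tensorPow hL n) hPt)
    ((hτ.tensor_left P).stalk_bijective hηU).1
  have h1 := h0_le_of_mono k f (Snapper.isCoh_twist k hH.1 hP _)
  have h2 : (h0 k ((tF (CohB1.tensorPow L n)).obj P) : ℚ) ≤
      (⌈(C + C') * ((j : ℚ) + 1) ^ (d - 1)⌉₊ : ℕ) * ((n : ℚ) + 1) ^ (d - 1) := by
    refine ((Nat.cast_le.2 h1).trans (key (j * n))).trans ?_
    refine le_trans ?_ (mul_le_mul_of_nonneg_right (Nat.le_ceil _) (by positivity))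
    rw [mul_assoc, ← mul_pow]
    refine mul_le_mul_of_nonneg_left (pow_le_pow_left₀ (by positivity) ?_ _) hC0
    push_cast
    nlinarith [Nat.cast_nonneg (α := ℚ) j, Nat.cast_nonneg (α := ℚ) n]
  exact_mod_cast h2

/-- A power of the exponent is eventually negligible against the next one. -/
theorem eventually_le_pow (C : ℕ) {n : ℕ} (hn : 0 < n) {ε : ℚ} (hε : 0 < ε) :
    ∃ N : ℕ, ∀ m : ℕ, N ≤ m → (C : ℚ) * ((m : ℚ) + 1) ^ (n - 1) ≤ ε * (m : ℚ) ^ n := by
  obtain ⟨e, rfl⟩ : ∃ e, n = e + 1 := ⟨n - 1, by omega⟩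
  refine ⟨⌈(C : ℚ) * 2 ^ e / ε⌉₊ + 1, fun m hm => ?_⟩
  have h1 : (⌈(C : ℚ) * 2 ^ e / ε⌉₊ : ℚ) + 1 ≤ m := by exact_mod_cast hm
  have h0 : (0 : ℚ) ≤ ⌈(C : ℚ) * 2 ^ e / ε⌉₊ := Nat.cast_nonneg _
  have hm1 : (1 : ℚ) ≤ m := by linarith
  have h2 : (C : ℚ) * 2 ^ e ≤ (m : ℚ) * ε := (div_le_iff₀ hε).1 ((Nat.le_ceil _).trans (by linarith))
  rw [Nat.add_sub_cancel]
  refine (mul_le_mul_of_nonneg_left (pow_le_pow_left₀ (by positivity) (by linarith : (m : ℚ) + 1 ≤ 2 * m) _)
    (Nat.cast_nonneg C)).trans ?_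
  rw [mul_pow, ← mul_assoc, pow_succ, ← mul_assoc, mul_comm (ε * (m : ℚ) ^ e), ← mul_assoc]
  exact mul_le_mul_of_nonneg_right h2 (by positivity)

theorem mem_support_of_isInvertible {M : X.Modules} (hM : PicF.IsInvertible M) (x : X) :
    x ∈ CohB1.support M := by
  obtain ⟨V, e, hxV, he⟩ := InvExt.exists_gen_nhd hM x
  intro hs
  exact one_ne_zero (α := X.presheaf.stalk x) (InvDual.smul_germ_injective he hxV (@Subsingleton.elim _ hs _ _))

include k in
/-- Powers of an ample invertible module on an `n`-dimensional integral scheme have at least `c m^n` sections. -/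
theorem exists_h0_pow_ge [IsIntegral X] {H : X.Modules} (hH : CohB1.IsAmple H) {n : ℕ}
    (hn : topologicalKrullDim X = n) :
    ∃ (c : ℚ) (N : ℕ), 0 < c ∧ ∀ m : ℕ, N ≤ m → c * (m : ℚ) ^ n ≤ (h0 k (CohB1.tensorPow H m) : ℚ) := by
  have hO : Coh.IsCoh (Coh.structureModule X) := Euler.isCoh_of_isInvertible Euler.isInvertible_structure
  have hsupp : CohB1.support (Coh.structureModule X) = Set.univ :=
    Set.eq_univ_of_forall fun x => mem_support_of_isInvertible Euler.isInvertible_structure x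
  have hu : topologicalKrullDim (Set.univ : Set X) = (n : WithBot ℕ∞) :=
    (IsHomeomorph.topologicalKrullDim_eq _ (Homeomorph.Set.univ X).isHomeomorph).trans hn
  have h1 : DimLT (CohB1.support (Coh.structureModule X)) (n + 1) := by
    rw [hsupp]; exact Snapper.dimLT_of_dim_le hu.le
  have h2 : ¬ DimLT (CohB1.support (Coh.structureModule X)) n := by
    rw [hsupp]; exact Hilb20.not_dimLT_of_dim_eq isClosed_univ hu
  obtain ⟨P, hP, hdeg⟩ := Hilb20.exists_isHilbPoly_of_dimLT (k := k) hH.1 hO h1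
  have hc : 0 < P.coeff n := (Hilb20.coeffPos n X H _ hH hO h1 P hP).2 h2
  have hd : (P - Polynomial.C (P.coeff n / 2) * Polynomial.X ^ n).degree < ((n + 1 : ℕ) : WithBot ℕ) :=
    (Polynomial.degree_sub_le _ _).trans_lt (max_lt hdeg
      ((Polynomial.degree_C_mul_X_pow_le _ _).trans_lt (by exact_mod_cast n.lt_succ_self)))
  obtain ⟨N₁, hN₁⟩ := Hilb20.eventually_eval_pos hd (by simp; linarith)
  have hχ : ∀ m, N₁ ≤ m → P.coeff n / 2 * (m : ℚ) ^ n ≤
      (Curv2.euler k X (CohB1.tensorPow H m) : ℚ) := fun m hm => by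
    have h := hN₁ m hm
    simp at h
    have e : (tF (CohB1.tensorPow H m)).obj (Coh.structureModule X) ≅ CohB1.tensorPow H m :=
      OX.tensorUnitLeftIso _
    have e2 := hP m
    rw [show ShStab.twist X H (Coh.structureModule X) m = (tF (CohB1.tensorPow H m)).obj (Coh.structureModule X)
      from rfl, Euler.euler_of_iso k e] at e2
    rw [e2]
    linarith
  obtain ⟨C, hC⟩ := Snapper.growth_hpos k hH n (Coh.structureModule X) hO h1
  have hcoh : ∀ m, Coh.IsCoh (CohB1.tensorPow H m) := fun m =>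
    Euler.isCoh_of_isInvertible (Ample.isInvertible_tensorPow hH.1 m)
  have hp : ∀ m, hpos k (CohB1.tensorPow H m) =
      hpos k ((tF (CohB1.tensorPow H m)).obj (Coh.structureModule X)) := fun m =>
    Snapper.hpos_of_iso k (OX.tensorUnitLeftIso _).symm
  refine ⟨P.coeff n / 4, ?_⟩
  rcases Nat.eq_zero_or_pos n with rfl | hn0
  · refine ⟨N₁, by linarith, fun m hm => ?_⟩
    have hz : hpos k (CohB1.tensorPow H m) = 0 := by
      rw [hp m]
      exact Snapper.hpos_eq_zero_of_dimLT_one k (Snapper.isCoh_twist k hH.1 hO m)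
        (h1.mono (Snapper.support_twist_subset hH.1 m))
    have := le_h0 k (hcoh m)
    rw [hz, Nat.cast_zero, sub_zero] at this
    have := hχ m hm
    simp only [pow_zero, mul_one] at this ⊢
    linarith
  · obtain ⟨N₂, hN₂⟩ := eventually_le_pow C hn0 (show 0 < P.coeff n / 4 by linarith)
    refine ⟨max N₁ N₂, by linarith, fun m hm => ?_⟩
    have a := hχ m (le_of_max_le_left hm)
    have b := hN₂ m (le_of_max_le_right hm)
    have c := le_h0 k (hcoh m)
    have d : (hpos k (CohB1.tensorPow H m) : ℚ) ≤ (C : ℚ) * ((m : ℚ) + 1) ^ (n - 1) := by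
      rw [hp m]; exact_mod_cast hC m
    linarith

end GrothLib.Kodaira
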