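import Groth.Agent.Lib.Kodaira.Big
import Groth.Agent.Lib.Kleiman.Kleiman
import Mathlib.Order.Filter.ENNReal

/-!
# Volumes of invertible modules
-/

set_option autoImplicit false
set_option backward.isDefEq.respectTransparency false
set_option linter.all false

universe u

open CategoryTheory CategoryTheory.Limits AlgebraicGeometry TopologicalSpace Opposite Filter
open scoped ENNReal

noncomputable section

namespace GrothLib.Kodaira

open GrothLib.Euler (tF)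
open GrothLib.Snapper (DimLT)
open GrothLib.QCoh (stalkLin TorsFreeAt)
open GrothLib.Cube (Pic clsMod cls)

variable {X : Scheme.{u}} [IsIntegral X] (k : Type u) [Field k] [X.Over (Spec (CommRingCat.of k))]
  [IsProper (X ↘ Spec (CommRingCat.of k))]

include k in
/-- Kodaira's lemma, from frequent growth: if `L^m` has frequently at least `c m^n` sections, some `L^μ` dominates
a given ample module. -/
theorem exists_mono_of_frequently {n : ℕ} (hn : topologicalKrullDim X = n) {A : X.Modules} (hA : CohB1.IsAmple A)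
    {L : X.Modules} (hL : PicF.IsInvertible L) {c : ℚ} (hc : 0 < c)
    (hgrow : ∀ N : ℕ, ∃ μ : ℕ, N ≤ μ ∧ c * (μ : ℚ) ^ n ≤ (h0 k (CohB1.tensorPow L μ) : ℚ)) :
    ∃ μ : ℕ, 0 < μ ∧ ∃ φ : A ⟶ CohB1.tensorPow L μ, Mono φ := by
  haveI := Euler.isNoetherian_of_proper (X := X) k
  obtain ⟨j₀, hj₀⟩ := exists_pLe_pow hA (1 : Pic X)
  obtain ⟨a, ha⟩ : ∃ a, a = clsMod hA.1 := ⟨_, rfl⟩
  rw [← ha] at hj₀
  have haM : PLe a (a ^ (j₀ + 1)) := by
    have := (hj₀ j₀ le_rfl).mul_right a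
    rwa [one_mul, ← pow_succ] at this
  obtain ⟨T, hT, hT'⟩ := exists_rep (a ^ (j₀ + 1))⁻¹
  have hT1 : PLe (clsMod hT) (clsMod (Euler.isInvertible_structure (X := X))) := by
    rw [hT', (Cube.clsMod_eq_one_iff _).2 ⟨Iso.refl _⟩]
    have := (hj₀ (j₀ + 1) (Nat.le_succ _)).mul_right (a ^ (j₀ + 1))⁻¹
    rwa [one_mul, mul_inv_cancel] at this
  obtain ⟨s, hs⟩ := (pLe_iff hT _).1 hT1
  let S : ShortComplex X.Modules := ShortComplex.mk s (cokernel.π s) (cokernel.condition s)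
  have hS : S.ShortExact := { exact := ShortComplex.exact_of_g_is_cokernel _ (cokernelIsCokernel s) }
  have hTc : Coh.IsCoh T := Euler.isCoh_of_isInvertible hT
  have hOc : Coh.IsCoh (Coh.structureModule X) := Euler.isCoh_of_isInvertible Euler.isInvertible_structure
  have hQc : Coh.IsCoh (cokernel s) := QCoh.isCoh_cokernel s hTc hOc
  have hu : topologicalKrullDim (Set.univ : Set X) = (n : WithBot ℕ∞) :=
    (IsHomeomorph.topologicalKrullDim_eq _ (Homeomorph.Set.univ X).isHomeomorph).trans hn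
  have hcl : closure ({genericPoint X} : Set X) = Set.univ := genericPoint_closure X
  have hQd : DimLT (CohB1.support (cokernel s)) n :=
    Snapper.dimLT_of_notMem (η := genericPoint X) (by rw [hcl]; exact Snapper.dimLT_of_dim_le hu.le)
      (by rw [hcl]; exact Set.subset_univ _)
      (QCoh.notMem_support_cokernel_of_surjective s
        (Euler.stalkLin_genericPoint_bijective hT Euler.isInvertible_structure
          (exists_ne_zero_of_mono hT s)).2)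
  have hsum : ∀ m, h0 k (CohB1.tensorPow L m) ≤ h0 k (CohB1.tensorMod T (CohB1.tensorPow L m)) +
      h0 k ((tF (CohB1.tensorPow L m)).obj (cokernel s)) := fun m => by
    have h1 : h0 k ((tF (CohB1.tensorPow L m)).obj (Coh.structureModule X)) ≤
        h0 k ((tF (CohB1.tensorPow L m)).obj T) + h0 k ((tF (CohB1.tensorPow L m)).obj (cokernel s)) :=
      h0_X₂_le k (S := S.map (tF (CohB1.tensorPow L m))) (Snapper.shortExact_twist hL m hS)
        (Snapper.isCoh_twist k hL hTc m) (Snapper.isCoh_twist k hL hOc m) (Snapper.isCoh_twist k hL hQc m)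
    have e : (tF (CohB1.tensorPow L m)).obj (Coh.structureModule X) ≅ CohB1.tensorPow L m :=
      OX.tensorUnitLeftIso (CohB1.tensorPow L m)
    rw [h0_of_iso k e] at h1
    exact h1
  obtain ⟨μ, hμ0, hpos⟩ : ∃ μ : ℕ, 0 < μ ∧ 0 < h0 k (CohB1.tensorMod T (CohB1.tensorPow L μ)) := by
    rcases Nat.eq_zero_or_pos n with rfl | hn0
    · obtain ⟨μ, hμ, h1⟩ := hgrow 1
      refine ⟨μ, hμ, ?_⟩
      have hQz := Hilb20.isZero_of_support_eq_empty (Snapper.eq_empty_of_dimLT_zero hQd)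
      have h2 := hsum μ
      rw [h0_of_isZero k ((tF (CohB1.tensorPow L μ)).map_isZero hQz), add_zero] at h2
      rw [pow_zero, mul_one] at h1
      have : (0 : ℚ) < h0 k (CohB1.tensorPow L μ) := hc.trans_le h1
      exact lt_of_lt_of_le (by exact_mod_cast this) h2
    · obtain ⟨C, hC⟩ := h0_twist_bound k hA hL hQc hQd
      obtain ⟨N₂, hN₂⟩ := eventually_le_pow C hn0 (show 0 < c / 2 by linarith)
      obtain ⟨μ, hμ, h1⟩ := hgrow (N₂ + 1)
      refine ⟨μ, by omega, ?_⟩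
      have h2 : (h0 k (CohB1.tensorPow L μ) : ℚ) ≤
          (h0 k (CohB1.tensorMod T (CohB1.tensorPow L μ)) : ℚ) + (C : ℚ) * ((μ : ℚ) + 1) ^ (n - 1) := by
        exact_mod_cast (hsum μ).trans (Nat.add_le_add_left (hC _) _)
      have h3 := hN₂ μ (by omega)
      have h5 : 0 < c / 2 * (μ : ℚ) ^ n := by
        have : (0 : ℚ) < μ := by exact_mod_cast (show 0 < μ by omega)
        positivity
      have h6 : (0 : ℚ) < h0 k (CohB1.tensorMod T (CohB1.tensorPow L μ)) := by linarith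
      exact_mod_cast h6
  refine ⟨μ, hμ0, ?_⟩
  have hLm := Ample.isInvertible_tensorPow hL μ
  obtain ⟨σ, hσ⟩ := Euler.exists_ne_zero_section (Module.nontrivial_of_finrank_pos hpos)
  have h1 : PLe (1 : Pic X) ((a ^ (j₀ + 1))⁻¹ * clsMod hLm) := by
    rw [← hT', ← Cube.clsMod_tensorMod hT hLm,
      ← (Cube.clsMod_eq_one_iff (Euler.isInvertible_structure (X := X))).2 ⟨Iso.refl _⟩]
    exact (pLe_iff _ _).2 ⟨FinCov.homOfSection σ,
      Euler.mono_homOfSection (Ample.isInvertible_tensorMod hT hLm) hσ⟩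
  have h2 := h1.mul_right (a ^ (j₀ + 1))
  rw [one_mul, mul_comm _ (a ^ (j₀ + 1)), ← mul_assoc, mul_inv_cancel, one_mul] at h2
  exact (pLe_iff hA.1 hLm).1 (ha ▸ haM.trans h2)

/-- The upper growth rate of the sections of the powers. -/
def vol (d : ℕ) (L : X.Modules) : ℝ≥0∞ :=
  limsup (fun m : ℕ => (h0 k (CohB1.tensorPow L m) : ℝ≥0∞) / (m : ℝ≥0∞) ^ d) atTop

theorem h0_pow_le_of_pLe {L M : X.Modules} (hL : PicF.IsInvertible L) (hM : PicF.IsInvertible M) {a b : ℕ}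
    (h : PLe (clsMod hL ^ a) (clsMod hM ^ b)) :
    h0 k (CohB1.tensorPow L a) ≤ h0 k (CohB1.tensorPow M b) :=
  h0_le_of_pLe k (Ample.isInvertible_tensorPow hL a) (Ample.isInvertible_tensorPow hM b)
    (by rw [Cube.clsMod_tensorPow, Cube.clsMod_tensorPow]; exact h)

theorem exists_frequently_of_vol_pos {d : ℕ} {L : X.Modules} (h : 0 < vol k d L) :
    ∃ c : ℚ, 0 < c ∧ ∀ N : ℕ, ∃ μ : ℕ, N ≤ μ ∧ c * (μ : ℚ) ^ d ≤ (h0 k (CohB1.tensorPow L μ) : ℚ) := by
  obtain ⟨n, hn⟩ := ENNReal.exists_inv_nat_lt h.ne'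
  have hn0 : 0 < n := Nat.pos_of_ne_zero fun h0 => by simp [h0] at hn
  refine ⟨(n : ℚ)⁻¹, by positivity, fun N => ?_⟩
  obtain ⟨μ, hμN, hμ⟩ := Filter.frequently_atTop.1 (Filter.frequently_lt_of_lt_limsup (h := hn)) N
  refine ⟨μ, hμN, ?_⟩
  have h1 : (n : ℝ≥0∞)⁻¹ * (μ : ℝ≥0∞) ^ d ≤ (h0 k (CohB1.tensorPow L μ) : ℝ≥0∞) :=
    (mul_le_mul_left hμ.le _).trans (ENNReal.mul_le_of_le_div le_rfl)
  have h2 : ((μ ^ d : ℕ) : ℝ≥0∞) ≤ ((n * h0 k (CohB1.tensorPow L μ) : ℕ) : ℝ≥0∞) := by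
    push_cast
    calc (μ : ℝ≥0∞) ^ d = (n : ℝ≥0∞) * ((n : ℝ≥0∞)⁻¹ * (μ : ℝ≥0∞) ^ d) :=
          (ENNReal.mul_inv_cancel_left (by exact_mod_cast hn0.ne') (ENNReal.natCast_ne_top n)).symm
      _ ≤ _ := mul_le_mul_right h1 _
  rw [inv_mul_le_iff₀ (by exact_mod_cast hn0)]
  exact_mod_cast Nat.cast_le.1 h2

theorem exists_dominating {d : ℕ} (hd : topologicalKrullDim X = d) {A : X.Modules} (hA : CohB1.IsAmple A)
    {L : X.Modules} (hL : PicF.IsInvertible L) (h : 0 < vol k d L) :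
    ∃ μ r₀ : ℕ, 0 < μ ∧ PLe (clsMod hA.1) (clsMod hL ^ μ) ∧ ∀ r, r₀ ≤ r → PLe 1 (clsMod hL ^ r) := by
  obtain ⟨c, hc, hgrow⟩ := exists_frequently_of_vol_pos k h
  obtain ⟨μ, hμ, φ, hφ⟩ := exists_mono_of_frequently k hd hA hL hc hgrow
  have hA' : PLe (clsMod hA.1) (clsMod hL ^ μ) := by
    rw [← Cube.clsMod_tensorPow hL]
    exact (pLe_iff hA.1 _).2 ⟨φ, hφ⟩
  choose j hj using fun s : Fin μ => exists_pLe_pow hA ((clsMod hL ^ (s : ℕ))⁻¹)
  obtain ⟨J, hJ⟩ : ∃ J, ∀ s, j s ≤ J := ⟨Finset.univ.sup j, fun s => Finset.le_sup (Finset.mem_univ s)⟩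
  refine ⟨μ, μ * J, hμ, hA', fun r hr => ?_⟩
  have hq : J ≤ r / μ := (Nat.le_div_iff_mul_le hμ).2 (by rw [mul_comm]; exact hr)
  have h1 := ((hj ⟨r % μ, Nat.mod_lt _ hμ⟩ (r / μ) ((hJ _).trans hq)).trans (hA'.pow (r / μ))).mul_right
    (clsMod hL ^ (r % μ))
  rwa [inv_mul_cancel, ← pow_mul, ← pow_add, Nat.div_add_mod] at h1

theorem h0_twist_isBigO {d : ℕ} (hd : topologicalKrullDim X = d) {A : X.Modules} (hA : CohB1.IsAmple A)
    {L : X.Modules} (hL : PicF.IsInvertible L) {F : X.Modules} (hF : Coh.IsCoh F) :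
    ∃ C : ℕ, ∀ n : ℕ, h0 k (CohB1.tensorMod F (CohB1.tensorPow L n)) ≤ C * (n + 1) ^ d := by
  obtain ⟨C, hC⟩ := h0_twist_bound k hA hL hF (d := d + 1)
    ((Kleiman.dimLT_univ hd.le).mono (Set.subset_univ _))
  exact ⟨C, hC⟩

theorem liminf_pos_of_vol_pos {d : ℕ} (hd : topologicalKrullDim X = d) {A : X.Modules} (hA : CohB1.IsAmple A)
    {L : X.Modules} (hL : PicF.IsInvertible L) (h : 0 < vol k d L) :
    0 < liminf (fun m : ℕ => (h0 k (CohB1.tensorPow L m) : ℝ≥0∞) / (m : ℝ≥0∞) ^ d) atTop := by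
  obtain ⟨μ, r₀, hμ, hA', hr⟩ := exists_dominating k hd hA hL h
  obtain ⟨c, N, hc, hN⟩ := exists_h0_pow_ge k hA hd
  obtain ⟨K, hK⟩ := exists_nat_gt (c⁻¹ * (2 * μ : ℚ) ^ d)
  have hK0 : 0 < K := by
    have : (0 : ℚ) ≤ c⁻¹ * (2 * μ : ℚ) ^ d := by positivity
    exact_mod_cast this.trans_lt hK
  have key : ∀ᶠ m : ℕ in atTop, (K : ℝ≥0∞)⁻¹ ≤ (h0 k (CohB1.tensorPow L m) : ℝ≥0∞) / (m : ℝ≥0∞) ^ d := by
    refine eventually_atTop.2 ⟨2 * (r₀ + μ + μ * N) + 1, fun m hm => ?_⟩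
    obtain ⟨q, hq⟩ : ∃ q, q = (m - r₀) / μ := ⟨_, rfl⟩
    have hq1 : μ * q ≤ m - r₀ := by rw [hq]; exact Nat.mul_div_le _ _
    have hq2 : m - r₀ < μ * q + μ := by
      rw [hq]; have := Nat.div_add_mod (m - r₀) μ; have := Nat.mod_lt (m - r₀) hμ; omega
    have hqN : N ≤ q := (Nat.le_div_iff_mul_le hμ).2 (by rw [mul_comm]; omega) |>.trans hq.ge
    have hle : PLe (clsMod hA.1 ^ q) (clsMod hL ^ m) := by
      have h1 := (hr (m - μ * q) (by omega)).mul (hA'.pow q)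
      rwa [one_mul, ← pow_mul, ← pow_add, Nat.sub_add_cancel (by omega)] at h1
    have h1 : c * (q : ℚ) ^ d ≤ (h0 k (CohB1.tensorPow L m) : ℚ) :=
      (hN q hqN).trans (Nat.cast_le.2 (h0_pow_le_of_pLe k hA.1 hL hle))
    have h2 : m ≤ 2 * μ * q := by
      have : 2 * μ * q = 2 * (μ * q) := mul_assoc _ _ _
      omega
    have h3 : ((m ^ d : ℕ) : ℚ) ≤ ((K * h0 k (CohB1.tensorPow L m) : ℕ) : ℚ) := by
      push_cast
      calc (m : ℚ) ^ d ≤ ((2 * μ : ℚ) * q) ^ d := pow_le_pow_left₀ (by positivity) (by exact_mod_cast h2) _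
        _ = c⁻¹ * (2 * μ : ℚ) ^ d * (c * (q : ℚ) ^ d) := by rw [mul_pow]; field_simp
        _ ≤ (K : ℚ) * _ := mul_le_mul hK.le h1 (by positivity) (Nat.cast_nonneg K)
    have h4 : ((m ^ d : ℕ) : ℝ≥0∞) ≤ ((K * h0 k (CohB1.tensorPow L m) : ℕ) : ℝ≥0∞) :=
      Nat.cast_le.2 (by exact_mod_cast h3)
    push_cast at h4
    rw [ENNReal.le_div_iff_mul_le (Or.inl (pow_ne_zero _ (by exact_mod_cast (show m ≠ 0 by omega))))
      (Or.inl (ENNReal.pow_ne_top (ENNReal.natCast_ne_top m))), ENNReal.inv_mul_le_iff (by exact_mod_cast hK0.ne')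
      (ENNReal.natCast_ne_top K)]
    exact h4
  exact lt_of_lt_of_le (ENNReal.inv_pos.2 (ENNReal.natCast_ne_top K)) (Filter.le_liminf_of_le (h := key))

theorem vol_mono {d : ℕ} {L M : X.Modules} (hL : PicF.IsInvertible L) (hM : PicF.IsInvertible M)
    (h : PLe (clsMod hL) (clsMod hM)) : vol k d L ≤ vol k d M :=
  Filter.limsup_le_limsup (Eventually.of_forall fun m =>
    ENNReal.div_le_div_right (Nat.cast_le.2 (h0_pow_le_of_pLe k hL hM (h.pow m))) _)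

/-- Homogeneity of the volume. -/
theorem vol_pow {d : ℕ} (hd : topologicalKrullDim X = d) {A : X.Modules} (hA : CohB1.IsAmple A)
    {L : X.Modules} (hL : PicF.IsInvertible L) {a : ℕ} (ha : 0 < a) :
    vol k d (CohB1.tensorPow L a) = (a : ℝ≥0∞) ^ d * vol k d L := by
  let u : ℕ → ℝ≥0∞ := fun m => (h0 k (CohB1.tensorPow L m) : ℝ≥0∞) / (m : ℝ≥0∞) ^ d
  have ha0 : (a : ℝ≥0∞) ^ d ≠ 0 := pow_ne_zero _ (by exact_mod_cast ha.ne')
  have hat : (a : ℝ≥0∞) ^ d ≠ ⊤ := ENNReal.pow_ne_top (ENNReal.natCast_ne_top a)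
  have hLa : PicF.IsInvertible (CohB1.tensorPow L a) := Ample.isInvertible_tensorPow hL a
  have he : ∀ m, h0 k (CohB1.tensorPow (CohB1.tensorPow L a) m) = h0 k (CohB1.tensorPow L (a * m)) := fun m => by
    obtain ⟨e⟩ := (Cube.clsMod_eq_iff (Ample.isInvertible_tensorPow hLa m)
      (Ample.isInvertible_tensorPow hL (a * m))).1
      (by rw [Cube.clsMod_tensorPow hLa, Cube.clsMod_tensorPow hL, Cube.clsMod_tensorPow hL, pow_mul])
    exact h0_of_iso k e
  have hu : ∀ m, (h0 k (CohB1.tensorPow (CohB1.tensorPow L a) m) : ℝ≥0∞) / (m : ℝ≥0∞) ^ d =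
      (a : ℝ≥0∞) ^ d * u (a * m) := fun m => by
    rw [he]
    show _ = (a : ℝ≥0∞) ^ d * (_ / _)
    rw [Nat.cast_mul, mul_pow, ← mul_div_assoc, ENNReal.mul_div_mul_left _ _ ha0 hat]
  have hle : vol k d (CohB1.tensorPow L a) ≤ (a : ℝ≥0∞) ^ d * vol k d L := by
    unfold vol
    simp only [hu]
    rw [ENNReal.limsup_const_mul_of_ne_top hat]
    refine mul_le_mul_right ?_ _
    have htm : Filter.map (fun m : ℕ => a * m) atTop ≤ atTop :=
      tendsto_atTop_mono (fun m => Nat.le_mul_of_pos_left m ha) tendsto_id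
    exact (Filter.limsup_comp u (fun m : ℕ => a * m) atTop).le.trans (Filter.limsup_le_limsup_of_le htm)
  refine le_antisymm hle ?_
  rcases eq_or_ne (vol k d L) 0 with h0' | h0'
  · rw [h0', mul_zero]; exact bot_le
  obtain ⟨μ, r₀, hμ, -, hr⟩ := exists_dominating k hd hA hL (bot_lt_iff_ne_bot.2 h0')
  refine le_of_forall_gt_imp_ge_of_dense fun b hb => ?_
  obtain ⟨N, hN⟩ := eventually_atTop.1 (Filter.eventually_lt_of_limsup_lt hb)
  obtain ⟨t, ht⟩ : ∃ t, t = r₀ + N + 1 := ⟨_, rfl⟩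
  let f : ℕ → ℝ≥0∞ := fun m => b * (((a : ℝ≥0∞))⁻¹ + (t : ℝ≥0∞) / (m : ℝ≥0∞)) ^ d
  have hf : Tendsto f atTop (nhds (b * ((a : ℝ≥0∞)⁻¹) ^ d)) := by
    refine ENNReal.Tendsto.const_mul ?_ (Or.inl (pow_ne_zero _ (ENNReal.inv_ne_zero.2 (ENNReal.natCast_ne_top a))))
    refine ((ENNReal.continuous_pow d).tendsto _).comp ?_
    have h1 : Tendsto (fun m : ℕ => (t : ℝ≥0∞) / (m : ℝ≥0∞)) atTop (nhds 0) :=
      by simpa using ENNReal.Tendsto.const_div ENNReal.tendsto_nat_nhds_top (Or.inr (ENNReal.natCast_ne_top t))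
    simpa using tendsto_const_nhds.add h1
  have hev : ∀ᶠ m in atTop, u m ≤ f m := by
    refine eventually_atTop.2 ⟨1, fun m hm => ?_⟩
    obtain ⟨q, hq⟩ : ∃ q, q = m / a := ⟨_, rfl⟩
    obtain ⟨n, hn⟩ : ∃ n, n = q + t := ⟨_, rfl⟩
    have h1 := Nat.div_add_mod m a
    have h2 := Nat.mod_lt m ha
    rw [← hq] at h1
    have h3 : m + r₀ ≤ a * n := by
      rw [hn, mul_add]
      have : t ≤ a * t := Nat.le_mul_of_pos_left t ha
      have h4 : a ≤ a * (N + 1) := Nat.le_mul_of_pos_right a N.succ_pos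
      have h5 : a * t = a * r₀ + a * (N + 1) := by rw [ht, ← mul_add, add_assoc]
      have h6 : r₀ ≤ a * r₀ := Nat.le_mul_of_pos_left r₀ ha
      omega
    have hle' : h0 k (CohB1.tensorPow L m) ≤ h0 k (CohB1.tensorPow (CohB1.tensorPow L a) n) := by
      rw [he]
      refine h0_pow_le_of_pLe k hL hL ?_
      have h4 := (hr (a * n - m) (by omega)).mul_right (clsMod hL ^ m)
      rwa [one_mul, ← pow_add, Nat.sub_add_cancel (by omega)] at h4
    have hb' := (hN n (by omega)).le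
    have hn0 : (n : ℝ≥0∞) ^ d ≠ 0 := pow_ne_zero _ (by exact_mod_cast (show n ≠ 0 by omega))
    rw [ENNReal.div_le_iff hn0 (ENNReal.pow_ne_top (ENNReal.natCast_ne_top n))] at hb'
    show _ / _ ≤ _
    rw [ENNReal.div_le_iff (pow_ne_zero _ (by exact_mod_cast (show m ≠ 0 by omega)))
      (ENNReal.pow_ne_top (ENNReal.natCast_ne_top m)), mul_assoc, ← mul_pow]
    refine ((Nat.cast_le.2 hle').trans hb').trans (mul_le_mul_right (pow_le_pow_left₀ bot_le ?_ _) _)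
    rw [add_mul, ENNReal.div_mul_cancel (by exact_mod_cast (show m ≠ 0 by omega)) (ENNReal.natCast_ne_top m), hn]
    push_cast
    refine add_le_add ?_ le_rfl
    rw [mul_comm, ← div_eq_mul_inv, ENNReal.le_div_iff_mul_le (Or.inl (by exact_mod_cast ha.ne'))
      (Or.inl (ENNReal.natCast_ne_top a))]
    rw [hq]
    exact_mod_cast Nat.div_mul_le_self m a
  have h5 : vol k d L ≤ b * ((a : ℝ≥0∞)⁻¹) ^ d :=
    (Filter.limsup_le_limsup hev).trans hf.limsup_eq.le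
  calc (a : ℝ≥0∞) ^ d * vol k d L ≤ (a : ℝ≥0∞) ^ d * (b * ((a : ℝ≥0∞)⁻¹) ^ d) := mul_le_mul_right h5 _
    _ = b := by rw [← ENNReal.inv_pow, mul_left_comm, ENNReal.mul_inv_cancel ha0 hat, mul_one]

end GrothLib.Kodaira
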