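import Groth.Agent.Lib.Kodaira.Bound
import Groth.Agent.Lib.Cube.Pic

/-!
# Kodaira's lemma

The relation "some member maps monomorphically to some member" on classes of invertible modules.
-/

set_option autoImplicit false
set_option backward.isDefEq.respectTransparency false
set_option linter.all false

universe u

open CategoryTheory CategoryTheory.Limits AlgebraicGeometry TopologicalSpace Opposite

noncomputable section

namespace GrothLib.Kodaira

open GrothLib.Euler (tF)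
open GrothLib.Snapper (DimLT)
open GrothLib.QCoh (stalkLin TorsFreeAt)
open GrothLib.Cube (Pic clsMod cls)

variable {X : Scheme.{u}}

/-- `x ≤ y`: a monomorphism from a module of class `x` to a module of class `y`. -/
def PLe (x y : Pic X) : Prop :=
  ∃ (A B : X.Modules) (hA : PicF.IsInvertible A) (hB : PicF.IsInvertible B),
    clsMod hA = x ∧ clsMod hB = y ∧ ∃ f : A ⟶ B, Mono f

theorem exists_rep (x : Pic X) : ∃ (A : X.Modules) (hA : PicF.IsInvertible A), clsMod hA = x := by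
  induction x using Quotient.inductionOn with
  | _ c =>
    exact ⟨c.twist 1, c.isInvertible_of_iso (Iso.refl _),
      Cube.clsMod_eq (c.isInvertible_of_iso (Iso.refl _)) (Iso.refl _)⟩

theorem pLe_iff {A B : X.Modules} (hA : PicF.IsInvertible A) (hB : PicF.IsInvertible B) :
    PLe (clsMod hA) (clsMod hB) ↔ ∃ f : A ⟶ B, Mono f := by
  refine ⟨?_, fun h => ⟨A, B, hA, hB, rfl, rfl, h⟩⟩
  rintro ⟨A', B', hA', hB', ea, eb, f, hf⟩
  obtain ⟨a⟩ := (Cube.clsMod_eq_iff hA' hA).1 ea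
  obtain ⟨b⟩ := (Cube.clsMod_eq_iff hB' hB).1 eb
  exact ⟨a.inv ≫ f ≫ b.hom, inferInstance⟩

theorem PLe.rfl' (x : Pic X) : PLe x x := by
  obtain ⟨A, hA, rfl⟩ := exists_rep x
  exact (pLe_iff hA hA).2 ⟨𝟙 A, inferInstance⟩

theorem PLe.trans {x y z : Pic X} (h : PLe x y) (h' : PLe y z) : PLe x z := by
  obtain ⟨A, hA, rfl⟩ := exists_rep x
  obtain ⟨B, hB, rfl⟩ := exists_rep y
  obtain ⟨C, hC, rfl⟩ := exists_rep z
  obtain ⟨f, hf⟩ := (pLe_iff hA hB).1 h
  obtain ⟨g, hg⟩ := (pLe_iff hB hC).1 h'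
  exact (pLe_iff hA hC).2 ⟨f ≫ g, inferInstance⟩

theorem mono_tF_map {M : X.Modules} (hM : PicF.IsInvertible M) {A B : X.Modules} (f : A ⟶ B) [Mono f] :
    Mono ((tF M).map f) :=
  (OX.tensor_map_shortExact (OX.flat_of_isFinLocFree (Euler.isFinLocFree_of_isInvertible hM))
    (show (ShortComplex.mk f (cokernel.π f) (cokernel.condition f)).ShortExact from
      { exact := ShortComplex.exact_of_g_is_cokernel _ (cokernelIsCokernel f) })).mono_f

theorem PLe.mul_right {x y : Pic X} (h : PLe x y) (z : Pic X) : PLe (x * z) (y * z) := by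
  obtain ⟨A, B, hA, hB, rfl, rfl, f, hf⟩ := h
  obtain ⟨M, hM, rfl⟩ := exists_rep z
  rw [← Cube.clsMod_tensorMod hA hM, ← Cube.clsMod_tensorMod hB hM]
  exact (pLe_iff _ _).2 ⟨(tF M).map f, mono_tF_map hM f⟩

theorem PLe.mul {x y x' y' : Pic X} (h : PLe x y) (h' : PLe x' y') : PLe (x * x') (y * y') :=
  (h.mul_right x').trans (mul_comm x' y ▸ mul_comm y' y ▸ h'.mul_right y)

theorem PLe.pow {x y : Pic X} (h : PLe x y) : ∀ n : ℕ, PLe (x ^ n) (y ^ n)
  | 0 => by simpa using PLe.rfl' (1 : Pic X)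
  | n + 1 => by simpa [pow_succ] using (PLe.pow h n).mul h

theorem stalkLin_zero_apply (M N : X.Modules) (x : X) (v : M.presheaf.stalk x) :
    stalkLin (0 : M ⟶ N) x v = 0 := by
  obtain ⟨U, hU, a, rfl⟩ := TopCat.Presheaf.exists_germ_eq M.presheaf v
  rw [QCoh.stalkLin_germ]
  exact map_zero _

theorem ne_zero_of_stalk_injective {A B : X.Modules} (hA : PicF.IsInvertible A) {f : A ⟶ B} {x : X}
    (h : Function.Injective (stalkLin f x)) : f ≠ 0 := by
  rintro rfl
  refine mem_support_of_isInvertible hA x ⟨fun a b => h ?_⟩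
  rw [stalkLin_zero_apply, stalkLin_zero_apply]

theorem exists_ne_zero_of_mono {A B : X.Modules} [IsIntegral X] (hA : PicF.IsInvertible A) (f : A ⟶ B) [Mono f] :
    f ≠ 0 :=
  ne_zero_of_stalk_injective hA (x := genericPoint X) (QCoh.stalkLin_injective f _)

variable [IsIntegral X]

/-- Every class is below all large powers of an ample one. -/
theorem exists_pLe_pow {H : X.Modules} (hH : CohB1.IsAmple H) (z : Pic X) :
    ∃ j₀ : ℕ, ∀ j, j₀ ≤ j → PLe z (clsMod hH.1 ^ j) := by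
  obtain ⟨L, hL, rfl⟩ := exists_rep z
  obtain ⟨j₀, hj₀⟩ := exists_hom_isoOn hH hL
  refine ⟨j₀, fun j hj => ?_⟩
  obtain ⟨U, σ, hηU, hσ⟩ := hj₀ j hj (genericPoint X)
  have hHj := Ample.isInvertible_tensorPow hH.1 j
  have : Mono σ := Euler.mono_of_ne_zero hL hHj
    (ne_zero_of_stalk_injective hL (hσ.stalk_bijective hηU).1)
  rw [← Cube.clsMod_tensorPow hH.1 j]
  exact (pLe_iff hL hHj).2 ⟨σ, this⟩

variable (k : Type u) [Field k] [X.Over (Spec (CommRingCat.of k))] [IsProper (X ↘ Spec (CommRingCat.of k))]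

theorem h0_le_of_pLe {A B : X.Modules} (hA : PicF.IsInvertible A) (hB : PicF.IsInvertible B)
    (h : PLe (clsMod hA) (clsMod hB)) : h0 k A ≤ h0 k B := by
  obtain ⟨f, hf⟩ := (pLe_iff hA hB).1 h
  exact h0_le_of_mono k f (Euler.isCoh_of_isInvertible hB)

include k in
/-- **Kodaira's lemma.** If the sections of `L^{νμ}` grow like `μ^n`, then every ample invertible module
has a monomorphism into some `L^{νμ}`. -/
theorem exists_mono_of_growth {n : ℕ} (hn : topologicalKrullDim X = n) {A : X.Modules} (hA : CohB1.IsAmple A)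
    {L : X.Modules} (hL : PicF.IsInvertible L) {ν : ℕ} {c : ℚ} (hc : 0 < c) {N : ℕ}
    (hgrow : ∀ μ, N ≤ μ → c * (μ : ℚ) ^ n ≤ (h0 k (CohB1.tensorPow L (ν * μ)) : ℚ)) :
    ∃ μ : ℕ, 0 < μ ∧ ∃ φ : A ⟶ CohB1.tensorPow L (ν * μ), Mono φ := by
  haveI := Euler.isNoetherian_of_proper (X := X) k
  obtain ⟨j₀, hj₀⟩ := exists_pLe_pow hA (1 : Pic X)
  obtain ⟨a, ha⟩ : ∃ a, a = clsMod hA.1 := ⟨_, rfl⟩
  rw [← ha] at hj₀
  have haM : PLe a (a ^ (j₀ + 1)) := by
    have := (hj₀ j₀ le_rfl).mul_right a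
    rwa [one_mul, ← pow_succ] at this
  obtain ⟨T, hT, hT'⟩ := exists_rep (a ^ (j₀ + 1))⁻¹
  have hT1 : PLe (clsMod hT) (clsMod (Euler.isInvertible_structure (X := X))) := by
    rw [hT', (Cube.clsMod_eq_one_iff _).2 ⟨Iso.refl _⟩]
    have := (hj₀ (j₀ + 1) (Nat.le_succ _)).mul_right (a ^ (j₀ + 1))⁻¹
    rwa [one_mul, mul_inv_cancel] at this
  obtain ⟨s, hs⟩ := (pLe_iff hT _).1 hT1
  let S : ShortComplex X.Modules := ShortComplex.mk s (cokernel.π s) (cokernel.condition s)
  have hS : S.ShortExact := { exact := ShortComplex.exact_of_g_is_cokernel _ (cokernelIsCokernel s) }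
  have hTc : Coh.IsCoh T := Euler.isCoh_of_isInvertible hT
  have hOc : Coh.IsCoh (Coh.structureModule X) := Euler.isCoh_of_isInvertible Euler.isInvertible_structure
  have hQc : Coh.IsCoh (cokernel s) := QCoh.isCoh_cokernel s hTc hOc
  have hu : topologicalKrullDim (Set.univ : Set X) = (n : WithBot ℕ∞) :=
    (IsHomeomorph.topologicalKrullDim_eq _ (Homeomorph.Set.univ X).isHomeomorph).trans hn
  have hcl : closure ({genericPoint X} : Set X) = Set.univ := genericPoint_closure X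
  have hQd : DimLT (CohB1.support (cokernel s)) n :=
    Snapper.dimLT_of_notMem (η := genericPoint X) (by rw [hcl]; exact Snapper.dimLT_of_dim_le hu.le)
      (by rw [hcl]; exact Set.subset_univ _)
      (QCoh.notMem_support_cokernel_of_surjective s
        (Euler.stalkLin_genericPoint_bijective hT Euler.isInvertible_structure
          (exists_ne_zero_of_mono hT s)).2)
  have hsum : ∀ m, h0 k (CohB1.tensorPow L m) ≤ h0 k (CohB1.tensorMod T (CohB1.tensorPow L m)) +
      h0 k ((tF (CohB1.tensorPow L m)).obj (cokernel s)) := fun m => by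
    have h1 : h0 k ((tF (CohB1.tensorPow L m)).obj (Coh.structureModule X)) ≤
        h0 k ((tF (CohB1.tensorPow L m)).obj T) + h0 k ((tF (CohB1.tensorPow L m)).obj (cokernel s)) :=
      h0_X₂_le k (S := S.map (tF (CohB1.tensorPow L m))) (Snapper.shortExact_twist hL m hS)
        (Snapper.isCoh_twist k hL hTc m) (Snapper.isCoh_twist k hL hOc m) (Snapper.isCoh_twist k hL hQc m)
    have e : (tF (CohB1.tensorPow L m)).obj (Coh.structureModule X) ≅ CohB1.tensorPow L m :=
      OX.tensorUnitLeftIso (CohB1.tensorPow L m)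
    rw [h0_of_iso k e] at h1
    exact h1
  obtain ⟨μ, hμ0, hpos⟩ : ∃ μ : ℕ, 0 < μ ∧ 0 < h0 k (CohB1.tensorMod T (CohB1.tensorPow L (ν * μ))) := by
    rcases Nat.eq_zero_or_pos n with rfl | hn0
    · refine ⟨N + 1, N.succ_pos, ?_⟩
      have hQz := Hilb20.isZero_of_support_eq_empty (Snapper.eq_empty_of_dimLT_zero hQd)
      have h1 := hgrow (N + 1) N.le_succ
      have h2 := hsum (ν * (N + 1))
      rw [h0_of_isZero k ((tF (CohB1.tensorPow L (ν * (N + 1)))).map_isZero hQz), add_zero] at h2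
      rw [pow_zero, mul_one] at h1
      have : (0 : ℚ) < h0 k (CohB1.tensorPow L (ν * (N + 1))) := hc.trans_le h1
      exact lt_of_lt_of_le (by exact_mod_cast this) h2
    · obtain ⟨C, hC⟩ := h0_twist_bound k hA hL hQc hQd
      obtain ⟨N₂, hN₂⟩ := eventually_le_pow (C * (ν + 1) ^ (n - 1)) hn0 (show 0 < c / 2 by linarith)
      refine ⟨N + N₂ + 1, by omega, ?_⟩
      set μ := N + N₂ + 1 with hμ
      have h1 := hgrow μ (by omega)
      have h2 : (h0 k (CohB1.tensorPow L (ν * μ)) : ℚ) ≤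
          (h0 k (CohB1.tensorMod T (CohB1.tensorPow L (ν * μ))) : ℚ) +
            (C : ℚ) * (((ν * μ : ℕ) : ℚ) + 1) ^ (n - 1) := by
        exact_mod_cast (hsum (ν * μ)).trans (Nat.add_le_add_left (hC _) _)
      have h3 := hN₂ μ (by omega)
      push_cast at h2 h3
      rw [mul_assoc, ← mul_pow] at h3
      have h4 : (C : ℚ) * ((ν : ℚ) * μ + 1) ^ (n - 1) ≤ (C : ℚ) * (((ν : ℚ) + 1) * ((μ : ℚ) + 1)) ^ (n - 1) := by
        refine mul_le_mul_of_nonneg_left (pow_le_pow_left₀ (by positivity) ?_ _) (Nat.cast_nonneg C)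
        nlinarith [Nat.cast_nonneg (α := ℚ) ν, Nat.cast_nonneg (α := ℚ) μ]
      have h5 : 0 < c / 2 * (μ : ℚ) ^ n := by
        have : (0 : ℚ) < μ := by rw [hμ]; exact_mod_cast Nat.succ_pos _
        positivity
      have h6 : (0 : ℚ) < h0 k (CohB1.tensorMod T (CohB1.tensorPow L (ν * μ))) := by linarith
      exact_mod_cast h6
  refine ⟨μ, hμ0, ?_⟩
  have hLm := Ample.isInvertible_tensorPow hL (ν * μ)
  obtain ⟨σ, hσ⟩ := Euler.exists_ne_zero_section (Module.nontrivial_of_finrank_pos hpos)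
  have h1 : PLe (1 : Pic X) ((a ^ (j₀ + 1))⁻¹ * clsMod hLm) := by
    rw [← hT', ← Cube.clsMod_tensorMod hT hLm,
      ← (Cube.clsMod_eq_one_iff (Euler.isInvertible_structure (X := X))).2 ⟨Iso.refl _⟩]
    exact (pLe_iff _ _).2 ⟨FinCov.homOfSection σ,
      Euler.mono_homOfSection (Ample.isInvertible_tensorMod hT hLm) hσ⟩
  have h2 := h1.mul_right (a ^ (j₀ + 1))
  rw [one_mul, mul_comm _ (a ^ (j₀ + 1)), ← mul_assoc, mul_inv_cancel, one_mul] at h2
  exact (pLe_iff hA.1 hLm).1 (ha ▸ haM.trans h2)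

end GrothLib.Kodaira
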