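import Groth.Agent.Lib.Kodaira.Bound
import Groth.Agent.Lib.Kleiman.Proper
import Groth.Agent.Lib.NefGrowth.Growth

/-!
# Sections of powers on proper schemes
-/

set_option autoImplicit false
set_option linter.all false
set_option backward.isDefEq.respectTransparency false

universe u

open CategoryTheory CategoryTheory.Limits AlgebraicGeometry TopologicalSpace Opposite

noncomputable section

namespace GrothLib.Kodaira

open GrothLib.Euler (tF)
open GrothLib.Snapper (DimLT)

variable {X Y : Scheme.{u}} (k : Type u) [Field k] [X.Over (Spec (CommRingCat.of k))]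
  [IsProper (X ↘ Spec (CommRingCat.of k))] [Y.Over (Spec (CommRingCat.of k))]

omit [X.Over (Spec (CommRingCat.of k))] [IsProper (X ↘ Spec (CommRingCat.of k))] [Y.Over (Spec (CommRingCat.of k))] in
/-- Functions on a reduced scheme inject into those of a scheme with dense image. -/
theorem mono_unitToPush [IsReduced X] (g : Y ⟶ X) [IsDominant g] : Mono (ClSub.unitToPush g) := by
  refine QCoh.mono_of_app_injective _ fun V => (injective_iff_map_eq_zero _).2 fun (r : Γ(X, V)) hr => ?_
  change g.app V r = 0 at hr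
  rw [← basicOpen_eq_bot_iff]
  have h : g ⁻¹ᵁ X.basicOpen r = ⊥ := by rw [Scheme.preimage_basicOpen, hr, Scheme.basicOpen_zero]
  refine Opens.ext (Set.eq_empty_of_forall_notMem fun x hx => ?_)
  obtain ⟨_, hy, y, rfl⟩ := mem_closure_iff.1 (g.denseRange x) _ (X.basicOpen r).isOpen hx
  exact (h.le (show y ∈ g ⁻¹ᵁ X.basicOpen r from hy) : y ∈ (⊥ : Y.Opens))

omit [X.Over (Spec (CommRingCat.of k))] [IsProper (X ↘ Spec (CommRingCat.of k))] [Y.Over (Spec (CommRingCat.of k))] in
theorem mono_twist {L : X.Modules} (hL : PicF.IsInvertible L) (n : ℕ) {F G : X.Modules} (φ : F ⟶ G) [Mono φ] :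
    Mono ((tF (CohB1.tensorPow L n)).map φ) :=
  (Snapper.shortExact_twist hL n (S := ShortComplex.mk φ (cokernel.π φ) (cokernel.condition φ))
    (ShortComplex.ShortExact.mk' (ShortComplex.exact_cokernel φ) inferInstance inferInstance)).mono_f

omit [X.Over (Spec (CommRingCat.of k))] [IsProper (X ↘ Spec (CommRingCat.of k))] [Y.Over (Spec (CommRingCat.of k))] in
/-- The projection formula for the powers of an invertible module. -/
theorem nonempty_tF_push' (g : Y ⟶ X) {L : X.Modules} (hL : PicF.IsInvertible L) (n : ℕ) :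
    Nonempty ((tF (CohB1.tensorPow L n)).obj ((Coh.push g).obj (Coh.structureModule Y)) ≅
      (Coh.push g).obj (CohB1.tensorPow ((Scheme.Modules.pullback g).obj L) n)) := by
  let E := CohB1.tensorPow L n
  have hE := Ample.isInvertible_tensorPow hL n
  haveI := ProjFormula.isIso_projHom g (Euler.isFinLocFree_of_isInvertible hE) (Coh.structureModule Y)
  let e₁ : (tF E).obj ((Coh.push g).obj (Coh.structureModule Y)) ≅
      (Coh.push g).obj ((Scheme.Modules.pullback g).obj E) :=
    ((OX.tensorBraiding (X := X)).app E).app _ ≪≫ asIso (ProjFormula.projHom g E (Coh.structureModule Y)) ≪≫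
      (Scheme.Modules.pushforward g).mapIso (Euler.tFUnitIso _)
  have hL' := Kleiman.isInv_pullback g hL
  obtain ⟨e₂⟩ : Nonempty ((Scheme.Modules.pullback g).obj E ≅ CohB1.tensorPow ((Scheme.Modules.pullback g).obj L) n) :=
    (Cube.clsMod_eq_iff (Kleiman.isInv_pullback g hE) (Ample.isInvertible_tensorPow hL' n)).1 (by
      rw [Cube.clsMod_tensorPow hL', Cube.clsMod_pullback g hE, Cube.clsMod_pullback g hL,
        Cube.clsMod_tensorPow hL, map_pow])
  exact ⟨e₁ ≪≫ (Coh.push g).mapIso e₂⟩

/-- Sections of twisted direct images of the structure sheaf. -/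
theorem h0_tF_push (g : Y ⟶ X) (hg : g ≫ X ↘ Spec (CommRingCat.of k) = Y ↘ Spec (CommRingCat.of k))
    {L : X.Modules} (hL : PicF.IsInvertible L) (n : ℕ) :
    h0 k ((tF (CohB1.tensorPow L n)).obj ((Coh.push g).obj (Coh.structureModule Y))) =
      h0 k (CohB1.tensorPow ((Scheme.Modules.pullback g).obj L) n) := by
  obtain ⟨e⟩ := nonempty_tF_push' g hL n
  rw [h0_of_iso k e]
  exact (Snapper.h0PushLin hg _).finrank_eq

/-- A monomorphism does not lose sections. -/
theorem h0_le_of_mono' {F G : X.Modules} (f : F ⟶ G) [Mono f] [FiniteDimensional k (Coh.HH X G 0)] :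
    h0 k F ≤ h0 k G := by
  refine LinearMap.finrank_le_finrank_of_injective (f := Cohom.hhMap k f 0) fun a b h => ?_
  refine (ProjCoh.H0top F).injective (Cohom.app_injective_of_mono f ⊤ ?_)
  have h1 : ∀ z, ProjCoh.H0top G (Cohom.hhMap k f 0 z) = f.app ⊤ (ProjCoh.H0top F z) := fun z => by
    rw [Cohom.hhMap_apply]
    exact ProjCoh.H0top_map _ z
  rw [← h1, ← h1, h]

variable [IsProper (Y ↘ Spec (CommRingCat.of k))]

theorem finiteDimensional_push (g : Y ⟶ X)
    (hg : g ≫ X ↘ Spec (CommRingCat.of k) = Y ↘ Spec (CommRingCat.of k)) {L : X.Modules}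
    (hL : PicF.IsInvertible L) (n : ℕ) :
    FiniteDimensional k
      (Coh.HH X ((tF (CohB1.tensorPow L n)).obj ((Coh.push g).obj (Coh.structureModule Y))) 0) := by
  obtain ⟨e⟩ := nonempty_tF_push' g hL n
  haveI := Euler.finiteDimensional_HH (X := Y) k (Euler.isCoh_of_isInvertible
    (Ample.isInvertible_tensorPow (Kleiman.isInv_pullback g hL) n)) 0
  exact ((Euler.hhEquiv (A := k) e 0).trans (Snapper.h0PushLin hg _)).symm.finiteDimensional

/-- Pulling back along a dominant map to a reduced scheme does not lose sections. -/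
theorem h0_le_pullback [IsReduced X] (g : Y ⟶ X) [IsDominant g]
    (hg : g ≫ X ↘ Spec (CommRingCat.of k) = Y ↘ Spec (CommRingCat.of k))
    {L : X.Modules} (hL : PicF.IsInvertible L) (n : ℕ) :
    h0 k (CohB1.tensorPow L n) ≤ h0 k (CohB1.tensorPow ((Scheme.Modules.pullback g).obj L) n) := by
  rw [← h0_tF_push k g hg hL n, h0_of_iso k (OX.tensorUnitLeftIso (CohB1.tensorPow L n)).symm]
  haveI := mono_unitToPush g
  haveI := mono_twist hL n (ClSub.unitToPush g)
  haveI := finiteDimensional_push k g hg hL n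
  exact h0_le_of_mono' k ((tF (CohB1.tensorPow L n)).map (ClSub.unitToPush g))

end GrothLib.Kodaira

namespace GrothLib.Kodaira

open GrothLib.Euler (tF)
open GrothLib.Snapper (DimLT)

variable {X : Scheme.{u}} (k : Type u) [Field k] [X.Over (Spec (CommRingCat.of k))]
  [IsProper (X ↘ Spec (CommRingCat.of k))]

/-- On an integral proper scheme of dimension `d` the powers have `O(n^d)` sections. -/
theorem h0_pow_bound_proper [IsIntegral X] {d : ℕ} (hd : topologicalKrullDim X = (d : WithBot ℕ∞))
    {L : X.Modules} (hL : PicF.IsInvertible L) :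
    ∃ C : ℕ, ∀ n : ℕ, h0 k (CohB1.tensorPow L n) ≤ C * (n + 1) ^ d := by
  obtain ⟨Z, g, hZ, hgp, hZd, hgen, H, hH⟩ := Kleiman.exists_projective_cover k hd
  haveI := hZ
  letI : Z.Over (Spec (CommRingCat.of k)) := ⟨g ≫ X ↘ Spec (CommRingCat.of k)⟩
  haveI : IsProper (Z ↘ Spec (CommRingCat.of k)) := hgp
  haveI : IsDominant g := ⟨by
    refine Dense.mono (Set.singleton_subset_iff.2 ⟨genericPoint Z, hgen⟩) ?_
    exact dense_iff_closure_eq.2 (genericPoint_spec X).def⟩
  have hL' := Kleiman.isInv_pullback g hL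
  obtain ⟨C, hC⟩ := h0_twist_bound k hH hL' (d := d + 1) (Euler.isCoh_of_isInvertible Euler.isInvertible_structure)
    ((Kleiman.dimLT_univ hZd.le).mono fun _ _ => trivial)
  refine ⟨C, fun n => (h0_le_pullback k g rfl hL n).trans ?_⟩
  rw [h0_of_iso k (OX.tensorUnitLeftIso (CohB1.tensorPow ((Scheme.Modules.pullback g).obj L) n)).symm]
  exact hC n

include k in
/-- Twists of a coherent module with support of dimension `< d` by powers of an invertible module have
`O(n^{d-1})` sections, on a proper scheme. -/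
theorem h0_twist_bound_proper {L : X.Modules} (hL : PicF.IsInvertible L) {d : ℕ}
    {F : X.Modules} (hF : Coh.IsCoh F) (hd : DimLT (CohB1.support F) d) :
    ∃ C : ℕ, ∀ n : ℕ, h0 k ((tF (CohB1.tensorPow L n)).obj F) ≤ C * (n + 1) ^ (d - 1) := by
  haveI := Euler.isNoetherian_of_proper (X := X) k
  refine QCoh.coh_induction (fun M => ∃ C : ℕ, ∀ n : ℕ,
    h0 k ((tF (CohB1.tensorPow L n)).obj M) ≤ C * (n + 1) ^ (d - 1)) ?_ ?_ ?_ F hF ?_
  · rintro M N ⟨e⟩ ⟨C, hC⟩
    exact ⟨C, fun n => (h0_of_iso k ((tF _).mapIso e)).symm.le.trans (hC n)⟩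
  · intro M hM
    exact ⟨0, fun n => by rw [h0_of_isZero k ((tF (CohB1.tensorPow L n)).map_isZero hM), zero_mul]⟩
  · rintro S hS a b c ⟨C₁, h₁⟩ ⟨C₃, h₃⟩
    refine ⟨C₁ + C₃, fun n => ?_⟩
    refine (h0_X₂_le k (Snapper.shortExact_twist hL n hS) (Snapper.isCoh_twist k hL a n)
      (Snapper.isCoh_twist k hL b n) (Snapper.isCoh_twist k hL c n)).trans ?_
    rw [Nat.add_mul]
    exact Nat.add_le_add (h₁ n) (h₃ n)
  intro Z i hi hZ N ι hι hN hN0 hsub
  haveI := hZ
  letI : Z.Over (Spec (CommRingCat.of k)) := ⟨i ≫ X ↘ Spec (CommRingCat.of k)⟩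
  haveI : IsProper (Z ↘ Spec (CommRingCat.of k)) := inferInstanceAs (IsProper (i ≫ X ↘ Spec (CommRingCat.of k)))
  obtain ⟨e, he⟩ := AffDom.exists_nat_ptDim (K := k) (X ↘ Spec (CommRingCat.of k)) (i (genericPoint Z))
  have hrange : closure ({i (genericPoint Z)} : Set X) = Set.range i := QCoh.closure_singleton_eq_range i
  have hde : e < d := by
    have hsub' : closure ({i (genericPoint Z)} : Set X) ⊆ CohB1.support F := by
      rw [hrange]
      exact (QCoh.range_subset_support_push i N ι hN hN0).trans hsub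
    by_contra hlt
    push Not at hlt
    rcases Nat.eq_zero_or_pos d with rfl | hd0
    · exact Snapper.not_dimLT_zero ⟨_, hsub' (subset_closure rfl)⟩ hd
    obtain ⟨d', rfl⟩ : ∃ d', d = d' + 1 := ⟨d - 1, by omega⟩
    have h1 := Snapper.dim_le_of_dimLT isClosed_closure (hd.mono hsub')
    rw [show topologicalKrullDim (closure ({i (genericPoint Z)} : Set X)) = (e : WithBot ℕ∞) from he] at h1
    have h2 : e ≤ d' := by exact_mod_cast h1
    omega
  have hdimZ : topologicalKrullDim Z = (e : WithBot ℕ∞) := by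
    refine (IsHomeomorph.topologicalKrullDim_eq _
      i.isClosedEmbedding.isEmbedding.toHomeomorph.isHomeomorph).trans ?_
    rw [← hrange]
    exact he
  obtain ⟨C, hC⟩ := h0_pow_bound_proper k hdimZ (Kleiman.isInv_pullback i hL)
  refine ⟨C, fun n => ?_⟩
  haveI : Mono ((Coh.push i).map ι) := (inferInstance : Mono ((Scheme.Modules.pushforward i).map ι))
  haveI := mono_twist hL n ((Coh.push i).map ι)
  haveI := finiteDimensional_push k i rfl hL n
  refine (h0_le_of_mono' k ((tF (CohB1.tensorPow L n)).map ((Coh.push i).map ι))).trans ?_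
  rw [h0_tF_push k i rfl hL n]
  exact (hC n).trans (Nat.mul_le_mul_left _ (Nat.pow_le_pow_right (by omega) (by omega)))

end GrothLib.Kodaira
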