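import Groth.Agent.Lib.Snapper.Growth
import Groth.Agent.Lib.TensorGen.Basic
import Groth.Agent.Lib.InvDual.Basic
import Groth.Agent.Lib.Ample.Coprod
import Groth.Agent.Lib.Ample.Twisting

/-!
# Maps which are isomorphisms near a point under tensor products; torsion-free pieces
-/

set_option autoImplicit false
set_option backward.isDefEq.respectTransparency false
set_option linter.all false

universe u

open CategoryTheory CategoryTheory.Limits AlgebraicGeometry TopologicalSpace Opposite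

noncomputable section

namespace GrothLib.Kodaira

open GrothLib.Euler (tF)
open GrothLib.QCoh (stalkLin TorsFreeAt)
open GrothLib.InvExt (mres IsGen)

variable {X : Scheme.{u}}

/-- The map is an isomorphism over `U`. -/
def IsoOn (U : X.Opens) {M N : X.Modules} (f : M ⟶ N) : Prop :=
  IsIso ((Scheme.Modules.pullback U.ι).map f)

theorem IsoOn.comp {U : X.Opens} {M N P : X.Modules} {f : M ⟶ N} {g : N ⟶ P} (hf : IsoOn U f)
    (hg : IsoOn U g) : IsoOn U (f ≫ g) := by
  haveI : IsIso ((Scheme.Modules.pullback U.ι).map f) := hf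
  haveI : IsIso ((Scheme.Modules.pullback U.ι).map g) := hg
  show IsIso _
  rw [Functor.map_comp]
  infer_instance

theorem isoOn_of_iso (U : X.Opens) {M N : X.Modules} (f : M ⟶ N) [IsIso f] : IsoOn U f :=
  inferInstanceAs (IsIso ((Scheme.Modules.pullback U.ι).map f))

theorem IsoOn.tensor_left {U : X.Opens} {N N' : X.Modules} {f : N ⟶ N'} (hf : IsoOn U f) (P : X.Modules) :
    IsoOn U (((DCoh.tensorBi (X := X)).obj P).map f) := by
  haveI : IsIso ((Scheme.Modules.pullback U.ι).map f) := hf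
  show IsIso _
  have h := OX.pullTensorIso_natural₂ U.ι P f
  rw [← isIso_comp_right_iff _ (OX.pullTensorIso U.ι P N').hom, h]
  infer_instance

theorem IsoOn.tensor_right {U : X.Opens} {M M' : X.Modules} {f : M ⟶ M'} (hf : IsoOn U f) (N : X.Modules) :
    IsoOn U ((tF N).map f) := by
  haveI : IsIso ((Scheme.Modules.pullback U.ι).map f) := hf
  show IsIso ((Scheme.Modules.pullback U.ι).map (((DCoh.tensorBi (X := X)).map f).app N))
  have h := OX.pullTensorIso_natural₁ U.ι f N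
  rw [← isIso_comp_right_iff _ (OX.pullTensorIso U.ι M' N).hom, h]
  infer_instance

theorem IsoOn.stalk_bijective {U : X.Opens} {M N : X.Modules} {f : M ⟶ N} (hf : IsoOn U f) {x : X}
    (hx : x ∈ U) : Function.Bijective (stalkLin f x) := by
  haveI : IsIso ((Scheme.Modules.restrictFunctor U.ι).map f) :=
    (NatIso.isIso_map_iff (Scheme.Modules.restrictFunctorIsoPullback U.ι) f).2 hf
  exact Snapper.stalk_bijective_of_isIso_restrict f U hx

theorem exists_isoOn_of_mem_genLocus {L : X.Modules} (s : Coh.structureModule X ⟶ L) {x : X}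
    (hx : x ∈ CohB1.genLocus L s) : ∃ U : X.Opens, x ∈ U ∧ IsoOn U s := by
  obtain ⟨U, hU, hxU⟩ := Opens.mem_sSup.1 hx
  exact ⟨U, hxU, (NatIso.isIso_map_iff
    (Scheme.Modules.restrictFunctorIsoPullback (Scheme.Opens.ι (U : X.Opens))) s).1 hU⟩

/-- Torsion-freeness at a point passes to submodules. -/
theorem torsFreeAt_of_mono {M N : X.Modules} (ι : M ⟶ N) [Mono ι] {z : X} (h : TorsFreeAt N z) :
    TorsFreeAt M z := by
  intro V s hs
  refine (Cohom.app_injective_of_mono ι V) ?_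
  refine (h V (ι.app V s) fun hz => ?_).trans (map_zero _).symm
  refine (QCoh.stalkLin_germ ι hz s).symm.trans ?_
  rw [hs hz, map_zero]

/-- Torsion-freeness at a point passes to twists by invertible modules. -/
theorem torsFreeAt_tensor {P L : X.Modules} (hL : PicF.IsInvertible L) {z : X} (h : TorsFreeAt P z) :
    TorsFreeAt (CohB1.tensorMod P L) z := by
  intro V t ht
  choose W l hxW hl using fun x : V => InvExt.exists_gen_nhd hL x.1
  refine Ample.meq_of_cover _ (fun x : V => V ⊓ W x) (fun x => inf_le_left)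
    (fun x hx => Opens.mem_iSup.mpr ⟨⟨x, hx⟩, hx, hxW ⟨x, hx⟩⟩) fun x => ?_
  let V' := V ⊓ W x
  have hl' := (hl x).restrict (inf_le_right : V' ≤ W x)
  obtain ⟨a, ha⟩ := (TensorGen.bijective_tm P L hl').2 (mres (CohB1.tensorMod P L) (inf_le_left : V' ≤ V) t)
  have ha0 : a = 0 := h V' a fun hz => by
    refine (TensorGen.bijective_tmulStalk P L (Ref1.gen_of_isGen hl' hz)).1 ?_
    dsimp only
    rw [map_zero, LinearMap.zero_apply, ← Ref1.germ_tmul]
    show (CohB1.tensorMod P L).presheaf.germ V' z hz (VA.tm a (mres L inf_le_right (l x))) = 0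
    dsimp only at ha
    rw [ha, TopCat.Presheaf.germ_res_apply]
    exact ht _
  dsimp only at ha
  rw [← ha, ha0]
  exact (TensorGen.tmEquiv P L hl').map_zero.trans (map_zero _).symm

/-- A map out of a module torsion-free at `z` which is bijective there is a monomorphism. -/
theorem mono_of_stalk_injective {M N : X.Modules} (f : M ⟶ N) {z : X} (hM : TorsFreeAt M z)
    (hf : Function.Injective (stalkLin f z)) : Mono f := by
  refine QCoh.mono_of_app_injective f fun V => (injective_iff_map_eq_zero _).2 fun s hs => ?_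
  refine hM V s fun hz => hf ?_
  refine (QCoh.stalkLin_germ f hz s).trans ?_
  rw [hs, map_zero, map_zero]

open Ample

/-- Multiplying by a cocycle and its inverse changes nothing. -/
theorem nonempty_cancel_iso (a d : Cocycle X) :
    Nonempty (((a.prod d.dinv).prod d).twist 1 ≅ a.twist 1) := by
  let R := a.prod (d.pow 0)
  have hG1 : ∀ (p q : a.ι × d.ι) (W : X.Opens) (hp : W ≤ a.D p.1 ⊓ d.D p.2) (hq : W ≤ a.D q.1 ⊓ d.D q.2),
      Cocycle.G R p q hp hq = a.G p.1 q.1 (hp.trans inf_le_left) (hq.trans inf_le_left) := fun p q W hp hq =>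
    (Cocycle.prod_G a (d.pow 0) p q hp hq).trans
      ((congrArg (fun z => a.G p.1 q.1 (hp.trans inf_le_left) (hq.trans inf_le_left) * z)
        ((d.pow_G 0 p.2 q.2 (hp.trans inf_le_right) (hq.trans inf_le_right)).trans (pow_zero _))).trans (mul_one _))
  have hG2 : ∀ (p q : a.ι × d.ι) (W : X.Opens) (hp : W ≤ (a.D p.1 ⊓ d.D p.2) ⊓ d.D p.2)
      (hq : W ≤ (a.D q.1 ⊓ d.D q.2) ⊓ d.D q.2),
      Cocycle.G ((a.prod d.dinv).prod d) ((p.1, p.2), p.2) ((q.1, q.2), q.2) hp hq =
        a.G p.1 q.1 ((hp.trans inf_le_left).trans inf_le_left) ((hq.trans inf_le_left).trans inf_le_left) := by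
    intro p q W hp hq
    have h1 := Cocycle.prod_G (a.prod d.dinv) d ((p.1, p.2), p.2) ((q.1, q.2), q.2) hp hq
    have h2 := Cocycle.prod_G a d.dinv (p.1, p.2) (q.1, q.2) (hp.trans inf_le_left) (hq.trans inf_le_left)
    have h3 := d.dinv_G p.2 q.2 ((hp.trans inf_le_left).trans inf_le_right) ((hq.trans inf_le_left).trans inf_le_right)
    refine h1.trans ((congrArg (· * _) (h2.trans (congrArg (_ * ·) h3))).trans ?_)
    exact (mul_assoc _ _ _).trans ((congrArg (_ * ·) (d.G_mul_G q.2 p.2 _ _)).trans (mul_one _))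
  obtain ⟨r₁⟩ := Cocycle.nonempty_refine_iso R ((a.prod d.dinv).prod d)
    (fun p : a.ι × d.ι => ((p.1, p.2), p.2))
    (fun p => show a.D p.1 ⊓ d.D p.2 ≤ (a.D p.1 ⊓ d.D p.2) ⊓ d.D p.2 from le_inf le_rfl inf_le_right)
    (fun p q W hp hq => (hG1 p q W hp hq).trans
      (hG2 p q W (le_inf hp (hp.trans inf_le_right)) (le_inf hq (hq.trans inf_le_right))).symm) 1
  obtain ⟨r₂⟩ := Cocycle.nonempty_refine_iso R a
    (fun p : a.ι × d.ι => p.1) (fun p => show a.D p.1 ⊓ d.D p.2 ≤ a.D p.1 from inf_le_left) hG1 1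
  exact ⟨r₁.symm ≪≫ r₂⟩

/-- High twists of an ample module and any invertible module have sections generating at every point,
and are obtained from sections carried to maps `L ⟶ H^j`. -/
theorem exists_hom_isoOn {H L : X.Modules} (hH : CohB1.IsAmple H) (hL : PicF.IsInvertible L) :
    ∃ j₀ : ℕ, ∀ j, j₀ ≤ j → ∀ x : X, ∃ (U : X.Opens) (σ : L ⟶ CohB1.tensorPow H j), x ∈ U ∧ IsoOn U σ := by
  haveI := hH.2.1
  obtain ⟨c, ⟨e⟩⟩ := exists_cocycle hH.1
  obtain ⟨d, ⟨eL⟩⟩ := exists_cocycle hL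
  obtain ⟨j₀, hj₀⟩ := c.eventually_isGenerated d.dinv ((c.isAmple_iff e).mp hH).2
  refine ⟨j₀, fun j hj x => ?_⟩
  obtain ⟨B, hB⟩ := hj₀ j hj x
  let T := ((c.pow j).prod d.dinv)
  obtain ⟨U, hxU, hU⟩ := exists_isoOn_of_mem_genLocus (T.hom B) (x := x) (by rw [T.genLocus_hom]; exact hB)
  obtain ⟨m⟩ := T.nonempty_tensor_prod d 1
  obtain ⟨r⟩ := nonempty_cancel_iso (c.pow j) d
  obtain ⟨q⟩ := c.nonempty_pow_twist j 1
  obtain ⟨p⟩ := c.nonempty_tensorPow_iso e j
  let e' : CohB1.tensorMod (T.twist 1) L ≅ CohB1.tensorPow H j :=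
    ((DCoh.tensorBi (X := X)).obj (T.twist 1)).mapIso eL ≪≫ m ≪≫ r ≪≫ q ≪≫
      eqToIso (by rw [mul_one]) ≪≫ p.symm
  refine ⟨U, (OX.tensorUnitLeftIso L).inv ≫ (tF L).map (T.hom B) ≫ e'.hom, hxU, ?_⟩
  exact (isoOn_of_iso U _).comp (((hU.tensor_right L)).comp (isoOn_of_iso U _))

/-- Powers of a map: `L^n ⟶ H^(j n)`. -/
theorem exists_pow_isoOn {H L : X.Modules} {j : ℕ} {U : X.Opens} {σ : L ⟶ CohB1.tensorPow H j}
    (hσ : IsoOn U σ) :
    ∀ n : ℕ, ∃ τ : CohB1.tensorPow L n ⟶ CohB1.tensorPow H (j * n), IsoOn U τ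
  | 0 => ⟨𝟙 _, isoOn_of_iso U _⟩
  | n + 1 => by
    obtain ⟨τ, hτ⟩ := exists_pow_isoOn hσ n
    obtain ⟨e⟩ := Snapper.nonempty_tensorPow_add H (j * n) j
    refine ⟨(tF L).map τ ≫ ((DCoh.tensorBi (X := X)).obj (CohB1.tensorPow H (j * n))).map σ ≫
      (e.symm ≪≫ eqToIso (by rw [Nat.mul_succ])).hom, ?_⟩
    exact (hτ.tensor_right L).comp ((hσ.tensor_left _).comp (isoOn_of_iso U _))

end GrothLib.Kodaira
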