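import Groth.Agent.Lib.Kodaira.Big
import Groth.Agent.Lib.Kodaira.BoundProper
import Groth.Agent.Lib.Snapper.Intersection
import Groth.Agent.Lib.ConnH0.Basic
import Groth.Agent.Lib.RegPow10.Main
import Groth.Agent.Lib.NefGrowth.IntNum
import Groth.Prelude.Def_ClSub2

/-!
# Sections of powers of a big invertible module
-/

set_option autoImplicit false
set_option backward.isDefEq.respectTransparency false
set_option linter.all false

universe u

open CategoryTheory CategoryTheory.Limits AlgebraicGeometry TopologicalSpace Opposite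

noncomputable section

namespace GrothLib.Kodaira

open GrothLib.Euler (tF)
open GrothLib.Snapper (DimLT)
open GrothLib.Cube (Pic clsMod)

variable {X : Scheme.{u}} (k : Type u) [Field k] [X.Over (Spec (CommRingCat.of k))]
  [IsProper (X ↘ Spec (CommRingCat.of k))]

theorem exists_rat_growth {d : ℕ} {L : X.Modules}
    (hbig : ∃ c : ℝ, 0 < c ∧ ∀ᶠ n : ℕ in Filter.atTop,
      c * (n : ℝ) ^ d < (Module.finrank k (Coh.HH X (CohB1.tensorPow L n) 0) : ℝ)) :
    ∃ (c : ℚ) (N : ℕ), 0 < c ∧ ∀ m : ℕ, N ≤ m → c * (m : ℚ) ^ d ≤ (h0 k (CohB1.tensorPow L m) : ℚ) := by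
  obtain ⟨c, hc, hev⟩ := hbig
  obtain ⟨N, hN⟩ := Filter.eventually_atTop.1 hev
  obtain ⟨q, hq0, hqc⟩ := exists_rat_btwn hc
  refine ⟨q, N, by exact_mod_cast hq0, fun m hm => ?_⟩
  have h := (mul_le_mul_of_nonneg_right hqc.le (pow_nonneg (Nat.cast_nonneg (α := ℝ) m) d)).trans (hN m hm).le
  exact_mod_cast h

include k in
theorem exists_sections_ideal_of_big {d : ℕ} {L : X.Modules} (hL : PicF.IsInvertible L)
    (hbig : ∃ c : ℝ, 0 < c ∧ ∀ᶠ n : ℕ in Filter.atTop,
      c * (n : ℝ) ^ d < (Module.finrank k (Coh.HH X (CohB1.tensorPow L n) 0) : ℝ))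
    (Z : X.IdealSheafData) (hZ : topologicalKrullDim (Z.support : Set X) < d) :
    ∃ m : ℕ, 0 < m ∧
      Nontrivial (Coh.HH X (CohB1.tensorMod (ClSub.idealMod Z) (CohB1.tensorPow L m)) 0) := by
  haveI := Euler.isNoetherian_of_proper (X := X) k
  obtain ⟨c, N, hc, hgrow⟩ := exists_rat_growth k hbig
  have hIc : Coh.IsCoh (ClSub.idealMod Z) := RegPow.isCoh_idealMod Z
  have hQc : Coh.IsCoh (ClSub.quotMod Z) := Snapper.isCoh_quotMod k Z
  have hOc : Coh.IsCoh (Coh.structureModule X) := Euler.isCoh_of_isInvertible Euler.isInvertible_structure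
  have hQd : DimLT (CohB1.support (ClSub.quotMod Z)) d := fun l hl => by
    have := (Snapper.length_le_dim _ l fun i => Snapper.support_quotMod Z (hl i)).trans_lt hZ
    exact_mod_cast this
  let S : ShortComplex X.Modules :=
    ShortComplex.mk (ClSub.idealModι Z) (ClSub.toSubscheme Z) (kernel.condition _)
  have hS : S.ShortExact := ConnH0.shortExact_ideal Z
  have hsum : ∀ m, h0 k (CohB1.tensorPow L m) ≤
      h0 k (CohB1.tensorMod (ClSub.idealMod Z) (CohB1.tensorPow L m)) +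
      h0 k ((tF (CohB1.tensorPow L m)).obj (ClSub.quotMod Z)) := fun m => by
    have h1 : h0 k ((tF (CohB1.tensorPow L m)).obj (Coh.structureModule X)) ≤
        h0 k ((tF (CohB1.tensorPow L m)).obj (ClSub.idealMod Z)) +
          h0 k ((tF (CohB1.tensorPow L m)).obj (ClSub.quotMod Z)) :=
      h0_X₂_le k (S := S.map (tF (CohB1.tensorPow L m))) (Snapper.shortExact_twist hL m hS)
        (Snapper.isCoh_twist k hL hIc m) (Snapper.isCoh_twist k hL hOc m) (Snapper.isCoh_twist k hL hQc m)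
    rw [h0_of_iso k (show (tF (CohB1.tensorPow L m)).obj (Coh.structureModule X) ≅ CohB1.tensorPow L m from
      OX.tensorUnitLeftIso _)] at h1
    exact h1
  obtain ⟨m, hm0, hpos⟩ : ∃ m : ℕ, 0 < m ∧
      0 < h0 k (CohB1.tensorMod (ClSub.idealMod Z) (CohB1.tensorPow L m)) := by
    rcases Nat.eq_zero_or_pos d with rfl | hd0
    · refine ⟨N + 1, N.succ_pos, ?_⟩
      have hQz := Hilb20.isZero_of_support_eq_empty (Snapper.eq_empty_of_dimLT_zero hQd)
      have h2 := hsum (N + 1)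
      rw [h0_of_isZero k ((tF (CohB1.tensorPow L (N + 1))).map_isZero hQz), add_zero] at h2
      have h1 := hgrow (N + 1) N.le_succ
      rw [pow_zero, mul_one] at h1
      have : (0 : ℚ) < h0 k (CohB1.tensorPow L (N + 1)) := hc.trans_le h1
      exact lt_of_lt_of_le (by exact_mod_cast this) h2
    · obtain ⟨C, hC⟩ := h0_twist_bound_proper k hL hQc hQd
      obtain ⟨N₂, hN₂⟩ := eventually_le_pow C hd0 (show 0 < c / 2 by linarith)
      refine ⟨N + N₂ + 1, by omega, ?_⟩
      set m := N + N₂ + 1 with hm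
      have h2 : (h0 k (CohB1.tensorPow L m) : ℚ) ≤
          (h0 k (CohB1.tensorMod (ClSub.idealMod Z) (CohB1.tensorPow L m)) : ℚ) +
            (C : ℚ) * ((m : ℚ) + 1) ^ (d - 1) := by
        exact_mod_cast (hsum m).trans (Nat.add_le_add_left (hC _) _)
      have h3 := hN₂ m (by omega)
      have h1 := hgrow m (by omega)
      have h5 : 0 < c / 2 * (m : ℚ) ^ d := by
        have : (0 : ℚ) < m := by exact_mod_cast Nat.succ_pos _
        positivity
      have h6 : (0 : ℚ) < h0 k (CohB1.tensorMod (ClSub.idealMod Z) (CohB1.tensorPow L m)) := by linarith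
      exact_mod_cast h6
  exact ⟨m, hm0, Module.nontrivial_of_finrank_pos hpos⟩

variable [IsIntegral X]

include k in
theorem big_iff_sections {A₀ : X.Modules} (hA₀ : CohB1.IsAmple A₀) {d : ℕ}
    (hdim : topologicalKrullDim X = d) {L : X.Modules} (hL : PicF.IsInvertible L) :
    (∃ c : ℝ, 0 < c ∧ ∀ᶠ n : ℕ in Filter.atTop,
        c * (n : ℝ) ^ d < (Module.finrank k (Coh.HH X (CohB1.tensorPow L n) 0) : ℝ)) ↔
      ∀ (A A' : X.Modules), CohB1.IsAmple A → ClSub.IsInverseOf A' A →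
        ∃ m : ℕ, 0 < m ∧ Nontrivial (Coh.HH X (CohB1.tensorMod A' (CohB1.tensorPow L m)) 0) := by
  haveI := Euler.isNoetherian_of_proper (X := X) k
  constructor
  · intro hbig A A' hA hinv
    obtain ⟨c, N, hc, hgrow⟩ := exists_rat_growth k hbig
    obtain ⟨μ, hμ, hφ⟩ : ∃ μ : ℕ, 0 < μ ∧ ∃ φ : A ⟶ CohB1.tensorPow L μ, Mono φ := by
      obtain ⟨μ₀, hμ₀, hφ₀⟩ := exists_mono_of_growth k hdim hA hL (ν := 1) hc (N := N)
        fun μ hμ => by rw [one_mul]; exact hgrow μ hμ
      exact ⟨1 * μ₀, by omega, hφ₀⟩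
    obtain ⟨hA', hmul⟩ := NefGrowth.cls_inverse hA.1 hinv
    have hLm := Ample.isInvertible_tensorPow hL μ
    have h1 : PLe (clsMod hA.1) (clsMod hLm) := (pLe_iff hA.1 hLm).2 hφ
    have h2 := h1.mul_right (clsMod hA')
    rw [mul_comm, hmul, mul_comm, ← Cube.clsMod_tensorMod hA' hLm] at h2
    have hO : clsMod (Euler.isInvertible_structure (X := X)) = 1 := (Cube.clsMod_eq_one_iff _).2 ⟨Iso.refl _⟩
    rw [← hO] at h2
    have h3 := h0_le_of_pLe k Euler.isInvertible_structure (Ample.isInvertible_tensorMod hA' hLm) h2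
    refine ⟨μ, hμ, Module.nontrivial_of_finrank_pos (R := k) (lt_of_lt_of_le ?_ h3)⟩
    haveI := Euler.finiteDimensional_HH k
      (Euler.isCoh_of_isInvertible (Euler.isInvertible_structure (X := X))) 0
    haveI : Nonempty (⊤ : X.Opens) := ⟨⟨genericPoint X, trivial⟩⟩
    haveI : Nontrivial (Coh.HH X (Coh.structureModule X) 0) :=
      (ProjCoh.H0top (Coh.structureModule X)).toEquiv.nontrivial_congr.2 (inferInstanceAs (Nontrivial Γ(X, ⊤)))
    exact Module.finrank_pos
  · intro h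
    obtain ⟨T, hT, hTa⟩ := exists_rep (clsMod hA₀.1)⁻¹
    obtain ⟨m, hm, hnt⟩ := h A₀ T hA₀ (by
      show Nonempty _
      rw [← Cube.clsMod_eq_one_iff (Ample.isInvertible_tensorMod hT hA₀.1), Cube.clsMod_tensorMod hT hA₀.1, hTa,
        inv_mul_cancel])
    obtain ⟨a, ha⟩ : ∃ a, a = clsMod hA₀.1 := ⟨_, rfl⟩
    obtain ⟨l, hl⟩ : ∃ l, l = clsMod hL := ⟨_, rfl⟩
    have hLm := Ample.isInvertible_tensorPow hL m
    obtain ⟨σ, hσ⟩ := Euler.exists_ne_zero_section hnt
    have h1 : PLe (1 : Pic X) (a⁻¹ * l ^ m) := by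
      rw [ha, hl, ← hTa, ← Cube.clsMod_tensorPow hL m, ← Cube.clsMod_tensorMod hT hLm,
        ← (Cube.clsMod_eq_one_iff (Euler.isInvertible_structure (X := X))).2 ⟨Iso.refl _⟩]
      exact (pLe_iff _ _).2 ⟨FinCov.homOfSection σ,
        Euler.mono_homOfSection (Ample.isInvertible_tensorMod hT hLm) hσ⟩
    have hal : PLe a (l ^ m) := by
      have := h1.mul_right a
      rwa [one_mul, mul_comm, mul_inv_cancel_left] at this
    choose j hj using fun r => exists_pLe_pow hA₀ ((l ^ r)⁻¹)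
    obtain ⟨J, hJ⟩ : ∃ J, J = (Finset.range m).sup j := ⟨_, rfl⟩
    obtain ⟨c, N, hc, hgrow⟩ := exists_h0_pow_ge (k := k) hA₀ hdim
    refine ⟨(c : ℝ) / 2 / (2 * (m : ℝ)) ^ d, by positivity, Filter.eventually_atTop.2
      ⟨m * (N + 2 * J + 2), fun n hn => ?_⟩⟩
    set q := n / m with hq
    set r := n % m with hr
    have hqr : m * q + r = n := Nat.div_add_mod n m
    have hrm : r < m := Nat.mod_lt _ hm
    have hqge : N + 2 * J + 2 ≤ q := (Nat.le_div_iff_mul_le hm).2 (by rw [mul_comm]; exact hn)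
    have hjr : j r ≤ J := hJ ▸ Finset.le_sup (Finset.mem_range.2 hrm)
    have hbase : PLe 1 (a ^ J * l ^ r) := by
      have := (hj r J hjr).mul_right (l ^ r)
      rwa [inv_mul_cancel, ← ha] at this
    have hle : PLe (a ^ (q - J)) (l ^ n) := by
      have h2 : PLe (a ^ (q - J) * 1) (a ^ (q - J) * (a ^ J * l ^ r)) := (PLe.rfl' _).mul hbase
      have h3 : PLe (a ^ q * l ^ r) ((l ^ m) ^ q * l ^ r) := (hal.pow q).mul_right _
      rw [mul_one, ← mul_assoc, ← pow_add, Nat.sub_add_cancel (by omega)] at h2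
      rw [← pow_mul, ← pow_add, hqr] at h3
      exact h2.trans h3
    rw [ha, hl, ← Cube.clsMod_tensorPow, ← Cube.clsMod_tensorPow] at hle
    have h4 := h0_le_of_pLe k (Ample.isInvertible_tensorPow hA₀.1 _) (Ample.isInvertible_tensorPow hL n) hle
    have h5 : (c : ℝ) * ((q - J : ℕ) : ℝ) ^ d ≤ (h0 k (CohB1.tensorPow L n) : ℝ) := by
      have h6 : (h0 k (CohB1.tensorPow A₀ (q - J)) : ℚ) ≤ (h0 k (CohB1.tensorPow L n) : ℚ) := by exact_mod_cast h4
      have h7 := (hgrow (q - J) (by omega)).trans h6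
      exact_mod_cast h7
    have hmn : (n : ℝ) ≤ 2 * m * ((q - J : ℕ) : ℝ) := by
      have : n ≤ 2 * m * (q - J) := by
        obtain ⟨t, ht⟩ : ∃ t, q = J + t := ⟨q - J, by omega⟩
        rw [ht, Nat.add_sub_cancel_left, ← hqr, ht]
        nlinarith [Nat.mul_le_mul_left m (show J + 1 ≤ t by omega)]
      exact_mod_cast this
    have hn0 : (0 : ℝ) < n := by
      have : 0 < n := lt_of_lt_of_le (Nat.mul_pos hm (by omega)) hn
      exact_mod_cast this
    have hm' : (0 : ℝ) < 2 * m := by positivity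
    have hc' : (0 : ℝ) < c := by exact_mod_cast hc
    show _ < (h0 k (CohB1.tensorPow L n) : ℝ)
    refine lt_of_lt_of_le ?_ h5
    calc (c : ℝ) / 2 / (2 * m) ^ d * (n : ℝ) ^ d
        ≤ (c : ℝ) / 2 / (2 * m) ^ d * (2 * m * ((q - J : ℕ) : ℝ)) ^ d := by gcongr
      _ = (c : ℝ) / 2 * ((q - J : ℕ) : ℝ) ^ d := by rw [mul_pow (2 * (m : ℝ))]; field_simp
      _ < (c : ℝ) * ((q - J : ℕ) : ℝ) ^ d := by
        have : (0 : ℝ) < ((q - J : ℕ) : ℝ) := by exact_mod_cast (show 0 < q - J by omega)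
        exact mul_lt_mul_of_pos_right (by linarith) (pow_pos this d)

end GrothLib.Kodaira
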